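import Groth.Agent.KRLib.Ideal
import Mathlib.RingTheory.Flat.EquationalCriterion
import Mathlib.RingTheory.Flat.FaithfullyFlat.Algebra
import Mathlib.RingTheory.RingHom.Flat
import Mathlib.LinearAlgebra.TensorProduct.Quotient
import Mathlib.LinearAlgebra.Matrix.ToLin

/-!
# Faithfully flat descent of Koszul-regular ideals
-/

set_option autoImplicit false
set_option linter.style.haveILetI false

universe u

open TensorProduct

namespace KRLib

open KoszDetLib

noncomputable section

variable {A B : Type u} [CommRing A] [CommRing B]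

theorem mapK_surj_num (S : Submonoid A) [Algebra A B] [IsLocalization S B] {n : ℕ} (y : Kz B n) :
    ∃ (s : S) (y₀ : Kz A n), algebraMap A B s • y = mapK (algebraMap A B) y₀ := by
  obtain ⟨s, hs⟩ := IsLocalization.exist_integer_multiples_of_finite S y
  choose y₀ hy₀ using hs
  exact ⟨s, y₀, funext fun i => ((hy₀ i).trans (Algebra.smul_def _ _)).symm⟩

theorem mapK_inj (S : Submonoid A) [Algebra A B] [IsLocalization S B] {n : ℕ} (x y : Kz A n)
    (h : mapK (algebraMap A B) x = mapK (algebraMap A B) y) : ∃ s : S, (s : A) • x = (s : A) • y := by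
  have := Fintype.ofFinite (Idx n)
  have h' : ∀ i, ∃ s : S, (s : A) * x i = (s : A) * y i := fun i =>
    (IsLocalization.eq_iff_exists S B).1 (congrFun h i)
  choose s hs using h'
  refine ⟨∏ i, s i, funext fun i => ?_⟩
  obtain ⟨c, hc⟩ := Finset.dvd_prod_of_mem s (Finset.mem_univ i)
  simp only [Pi.smul_apply, smul_eq_mul, hc, Submonoid.coe_mul]
  rw [mul_comm (s i : A), mul_assoc, mul_assoc, hs i]

/-- Flatness moves boundaries down. -/
theorem exists_smul_mem_of_flat [Algebra A B] [Module.Flat A B] {n : ℕ} (f : Fin n → A)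
    (P : Ideal B) [P.IsPrime] (x : Kz A n) (h : B) (hh : h ∉ P) (y : Kz B n)
    (hy : h • mapK (algebraMap A B) x = D (fun i => algebraMap A B (f i)) y) :
    ∃ c, c ∉ P.comap (algebraMap A B) ∧ c • x ∈ LinearMap.range (D f) := by
  classical
  have := Fintype.ofFinite (Idx n)
  let M := LinearMap.range (D f)
  let π : Kz A n →ₗ[A] Kz A n ⧸ M := M.mkQ
  let φ : A →ₗ[A] Kz A n ⧸ M := LinearMap.toSpanSingleton A _ (π x)
  let T : Ideal A := LinearMap.ker φ
  let Φ : Kz B n →ₗ[B] B ⊗[A] (Kz A n ⧸ M) :=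
    ∑ s, (LinearMap.proj s : Kz B n →ₗ[B] B).smulRight ((1 : B) ⊗ₜ[A] π (Pi.single s 1))
  have hΦ : ∀ (z : Kz A n), Φ (mapK (algebraMap A B) z) = 1 ⊗ₜ[A] π z := fun z => by
    have hz : z = ∑ s, z s • (Pi.single s 1 : Kz A n) := by
      funext t; simp [Finset.sum_apply, Pi.single_apply]
    conv_rhs => rw [hz, map_sum, TensorProduct.tmul_sum]
    simp only [Φ, LinearMap.sum_apply, LinearMap.smulRight_apply, LinearMap.proj_apply]
    refine Finset.sum_congr rfl fun s _ => ?_
    rw [map_smul, ← TensorProduct.smul_tmul, ← Algebra.algebraMap_eq_smul_one, TensorProduct.smul_tmul',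
      smul_eq_mul, mul_one]
    rfl
  have h0 : h ⊗ₜ[A] π x = (0 : B ⊗[A] (Kz A n ⧸ M)) := by
    have h1 : Φ (h • mapK (algebraMap A B) x) = h ⊗ₜ[A] π x := by
      rw [map_smul, hΦ, TensorProduct.smul_tmul', smul_eq_mul, mul_one]
    rw [← h1, hy]
    have hsum : y = ∑ t, y t • mapK (algebraMap A B) (Pi.single t 1) := by
      funext i
      simp [Finset.sum_apply, mapK, Pi.single_apply, apply_ite (algebraMap A B)]
    rw [hsum, map_sum, map_sum]
    refine Finset.sum_eq_zero fun t _ => ?_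
    rw [map_smul, map_smul, ← mapK_D, hΦ,
      show π (D f (Pi.single t 1)) = 0 from (Submodule.Quotient.mk_eq_zero _).2 ⟨_, rfl⟩,
      TensorProduct.tmul_zero, smul_zero]
  have hinj := Module.Flat.lTensor_preserves_injective_linearMap (M := B)
    (T.liftQ φ le_rfl) (LinearMap.ker_eq_bot.1 (Submodule.ker_liftQ_eq_bot _ _ _ le_rfl))
  have h2 : h ⊗ₜ[A] (Submodule.Quotient.mk (1 : A) : A ⧸ T) = 0 := by
    apply hinj
    rw [LinearMap.lTensor_tmul, map_zero]
    refine Eq.trans ?_ h0
    congr 1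
    exact one_smul A (π x)
  have h3 : h ∈ T.map (algebraMap A B) := by
    have h4 := congrArg (tensorQuotEquivQuotSMul B T) h2
    rw [map_zero] at h4
    have h5 : tensorQuotEquivQuotSMul B T (h ⊗ₜ[A] (Submodule.Quotient.mk (1 : A) : A ⧸ T)) =
        Submodule.Quotient.mk ((1 : A) • h) :=
      quotTensorEquivQuotSMul_mk_tmul T (1 : A) h
    rw [h5, one_smul, Submodule.Quotient.mk_eq_zero, Ideal.smul_top_eq_map] at h4
    exact h4
  obtain ⟨c, hc, hcP⟩ := Set.not_subset.1 (show ¬ (T : Set A) ⊆ P.comap (algebraMap A B) from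
    fun hT => hh (Ideal.map_le_iff_le_comap.2 hT h3))
  refine ⟨c, hcP, ?_⟩
  rwa [← Submodule.Quotient.mk_eq_zero]

/-- A sequence generating the unit ideal is exact. -/
theorem isExactK_of_one_mem {n : ℕ} (f : Fin n → A) (h : (1 : A) ∈ Ideal.span (Set.range f)) :
    IsExactK f := by
  intro x hx _
  obtain ⟨v, hv⟩ := Ideal.mem_span_range_iff_exists_fun.1 h
  refine ⟨L v x, ?_⟩
  have := D_L f v x
  rwa [hx, map_zero, add_zero, hv, one_smul] at this

/-- Exactness at a prime. -/
def ExactAtPrime {n : ℕ} (f : Fin n → A) (q : Ideal A) : Prop :=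
  ∀ x : Kz A n, D f x = 0 → eps x ∈ Ideal.span (Set.range f) →
    ∃ c, c ∉ q ∧ c • x ∈ LinearMap.range (D f)

/-- No relation with a coefficient outside `q`. -/
def MinimalAt {n : ℕ} (f : Fin n → A) (q : Ideal A) : Prop :=
  ∀ c : Fin n → A, ∑ i, c i * f i = 0 → ∀ i, c i ∈ q

theorem ExactAtPrime.minimalAt {n : ℕ} {f : Fin n → A} {q : Ideal A} [hq : q.IsPrime]
    (h : ExactAtPrime f q) (hf : Ideal.span (Set.range f) ≤ q) : MinimalAt f q := by
  intro c hc i
  have h1 : D f (L c (one n)) = 0 := by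
    have := D_L f c (one n)
    rwa [D_one, map_zero, add_zero, hc, zero_smul] at this
  obtain ⟨d, hd, w, hw⟩ := h _ h1 (by rw [eps_L]; exact Ideal.zero_mem _)
  have key : ∀ {n : ℕ} (a : Fin n → A) (i : Fin n), ∃ s : Idx n, L a (one n) s = a i := by
    intro n
    induction n with
    | zero => exact fun _ i => i.elim0
    | succ n ih =>
      intro a i
      induction i using Fin.cases with
      | zero =>
        refine ⟨Sum.inr (bot n), ?_⟩
        show pb (L a (one (n + 1))) (bot n) = a 0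
        rw [pb_L, show pa (one (n + 1) : Kz A (n + 1)) = one n from rfl,
          show pb (one (n + 1) : Kz A (n + 1)) = 0 from rfl, map_zero, sub_zero]
        show a 0 * eps (one n : Kz A n) = a 0
        rw [eps_one, mul_one]
      | succ j =>
        obtain ⟨s, hs⟩ := ih (Fin.tail a) j
        exact ⟨Sum.inl s, hs⟩
  obtain ⟨s, hs⟩ := key c i
  have h2 : d * c i ∈ q := by
    have h3 := hf (D_mem f w s)
    rw [hw] at h3
    rwa [← hs]
  exact (hq.mem_or_mem h2).resolve_left hd

section Main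

variable [Algebra A B] [Module.Flat A B]

/-- Exact in a neighbourhood of `P`. -/
def NearExact {n : ℕ} (f : Fin n → A) (P : Ideal B) : Prop :=
  ∃ h, h ∉ P ∧ IsExactK (fun i => algebraMap B (Localization.Away h) (algebraMap A B (f i)))

theorem NearExact.exactAtPrime {n : ℕ} {f : Fin n → A} {P : Ideal B} [hP : P.IsPrime]
    (hf : NearExact f P) : ExactAtPrime f (P.comap (algebraMap A B)) := by
  obtain ⟨h, hh, hex⟩ := hf
  intro x hx he
  let R := Localization.Away h
  let σ := algebraMap B R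
  let x' : Kz B n := mapK (algebraMap A B) x
  have hD : D (fun i => σ (algebraMap A B (f i))) (mapK σ x') = 0 := by
    rw [← mapK_D σ, ← mapK_D (algebraMap A B), hx, map_zero, map_zero]
  obtain ⟨y, hy⟩ := hex (mapK σ x') hD (by
    have := Ideal.mem_map_of_mem (σ.comp (algebraMap A B)) he
    rw [Ideal.map_span, ← Set.range_comp] at this
    exact this)
  obtain ⟨⟨s, hs⟩, y₀, hy₀⟩ := mapK_surj_num (Submonoid.powers h) y
  have h1 : mapK σ (D (fun i => algebraMap A B (f i)) y₀) = mapK σ (s • x') := by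
    rw [mapK_D, ← hy₀, map_smul, hy, mapK_smul]
  obtain ⟨⟨t, ht⟩, hst⟩ := mapK_inj (Submonoid.powers h) _ _ h1
  have hmem : t * s ∉ P := by
    obtain ⟨i, rfl⟩ := hs
    obtain ⟨j, rfl⟩ := ht
    exact hP.mul_notMem (fun h2 => hh (hP.mem_of_pow_mem _ h2)) (fun h2 => hh (hP.mem_of_pow_mem _ h2))
  refine exists_smul_mem_of_flat f P x (t * s) hmem (t • y₀) ?_
  rw [map_smul]
  exact (mul_smul _ _ _).trans hst.symm

theorem nearExact_of_notMem {n : ℕ} (f : Fin n → A) (P : Ideal B) (i : Fin n)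
    (hi : algebraMap A B (f i) ∉ P) : NearExact f P := by
  refine ⟨algebraMap A B (f i), hi, isExactK_of_one_mem _ ?_⟩
  rw [← Ideal.eq_top_iff_one]
  exact Ideal.eq_top_of_isUnit_mem _ (Ideal.subset_span ⟨i, rfl⟩)
    (IsLocalization.Away.algebraMap_isUnit _)

theorem nearExact_of_minimalAt {n : ℕ} (f : Fin n → A)
    (hB : LocKR ((Ideal.span (Set.range f)).map (algebraMap A B))) (P : Ideal B) [hP : P.IsPrime]
    (hmin : MinimalAt f (P.comap (algebraMap A B))) : NearExact f P := by
  classical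
  by_cases hall : ∀ i, algebraMap A B (f i) ∈ P
  swap
  · push Not at hall
    obtain ⟨i, hi⟩ := hall
    exact nearExact_of_notMem f P i hi
  have hIP : (Ideal.span (Set.range f)).map (algebraMap A B) ≤ P := by
    rw [Ideal.map_le_iff_le_comap, Ideal.span_le]
    rintro _ ⟨i, rfl⟩
    exact hall i
  obtain ⟨g, hg, r, F, hF, hFI⟩ := hB P hP hIP
  let L := Localization.Away g
  let P' := P.map (algebraMap B L)
  have hdisj : Disjoint (Submonoid.powers g : Set B) P := by
    rw [Set.disjoint_left]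
    rintro _ ⟨j, rfl⟩ hj
    exact hg (hP.mem_of_pow_mem j hj)
  haveI hP' : P'.IsPrime :=
    IsLocalization.isPrime_of_isPrime_disjoint (Submonoid.powers g) L P hP hdisj
  have hcomap : P'.comap (algebraMap B L) = P :=
    IsLocalization.comap_map_of_isPrime_disjoint (Submonoid.powers g) L hP hdisj
  haveI : Module.Flat A L := Module.Flat.trans A B L
  let a : Fin n → L := fun i => algebraMap A L (f i)
  have ha : Ideal.span (Set.range a) = Ideal.span (Set.range F) := by
    rw [hFI, Ideal.map_map, ← IsScalarTower.algebraMap_eq, Ideal.map_span, ← Set.range_comp]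
    rfl
  choose c hc using fun i : Fin n => Ideal.mem_span_range_iff_exists_fun.1
    (ha.le (Ideal.subset_span ⟨i, rfl⟩) : a i ∈ _)
  choose d hd using fun i : Fin r => Ideal.mem_span_range_iff_exists_fun.1
    (ha.ge (Ideal.subset_span ⟨i, rfl⟩) : F i ∈ _)
  let cM : Matrix (Fin n) (Fin r) L := Matrix.of c
  let dM : Matrix (Fin r) (Fin n) L := Matrix.of d
  let κ := L ⧸ P'
  let ρ : L →+* κ := Ideal.Quotient.mk P'
  have hFP : Ideal.span (Set.range F) ≤ P' := by rw [hFI]; exact Ideal.map_mono hIP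
  have hca : cM.mulVec F = a := funext fun i => hc i
  have hda : dM.mulVec a = F := funext fun i => hd i
  have hdc : (dM * cM).map ρ = 1 := by
    ext i j
    have h1 : (dM * cM).mulVec F = F := by rw [← Matrix.mulVec_mulVec, hca, hda]
    have h2 := coeff_mem_of_relation hF (fun l => (dM * cM - 1 : Matrix (Fin r) (Fin r) L) i l) (by
      show ((dM * cM - 1 : Matrix (Fin r) (Fin r) L).mulVec F) i = 0
      rw [Matrix.sub_mulVec, h1, Matrix.one_mulVec, sub_self, Pi.zero_apply]) j
    have h3 : ρ ((dM * cM - 1 : Matrix (Fin r) (Fin r) L) i j) = 0 := Ideal.Quotient.eq_zero_iff_mem.2 (hFP h2)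
    rw [Matrix.sub_apply, map_sub, sub_eq_zero] at h3
    rw [Matrix.map_apply, h3, Matrix.one_apply, Matrix.one_apply]
    split_ifs <;> simp
  have hcd : (cM * dM).map ρ = 1 := by
    ext i j
    have h1 : (cM * dM).mulVec a = a := by rw [← Matrix.mulVec_mulVec, hda, hca]
    have h2 : ∑ l, f l • (cM * dM - 1 : Matrix (Fin n) (Fin n) L) i l = 0 := by
      have h3 : ((cM * dM - 1 : Matrix (Fin n) (Fin n) L).mulVec a) i = 0 := by
        rw [Matrix.sub_mulVec, h1, Matrix.one_mulVec, sub_self, Pi.zero_apply]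
      rw [← h3]
      refine Finset.sum_congr rfl fun l _ => ?_
      rw [Algebra.smul_def, mul_comm]
    obtain ⟨k, α, y, hy, hα⟩ := Module.Flat.isTrivialRelation_of_sum_smul_eq_zero h2
    have h4 : ρ ((cM * dM - 1 : Matrix (Fin n) (Fin n) L) i j) = 0 := by
      rw [hy j, map_sum]
      refine Finset.sum_eq_zero fun m _ => ?_
      rw [Algebra.smul_def, map_mul]
      have hα' : α j m ∈ P.comap (algebraMap A B) :=
        hmin (fun l => α l m) (by rw [← hα m]; exact Finset.sum_congr rfl fun l _ => mul_comm _ _) j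
      rw [Ideal.Quotient.eq_zero_iff_mem.2, zero_mul]
      rw [IsScalarTower.algebraMap_apply A B L]
      exact Ideal.mem_map_of_mem _ hα'
    rw [Matrix.sub_apply, map_sub, sub_eq_zero] at h4
    rw [Matrix.map_apply, h4, Matrix.one_apply, Matrix.one_apply]
    split_ifs <;> simp
  rw [Matrix.map_mul] at hdc hcd
  have hnr : n = r := by
    have h1 := (Matrix.toLin'OfInv hdc hcd).finrank_eq
    simpa using h1.symm
  subst hnr
  have hdet : ρ cM.det ≠ 0 := by
    rw [RingHom.map_det]
    intro h0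
    have h1 := congrArg Matrix.det hdc
    rw [Matrix.det_mul, Matrix.det_one, show ((cM.map ρ).det) = 0 from h0, mul_zero] at h1
    exact zero_ne_one h1
  obtain ⟨⟨h₀, ⟨_, kk, rfl⟩⟩, hh₀⟩ := IsLocalization.surj (Submonoid.powers g) cM.det
  have hh₀P : h₀ ∉ P := fun h1 => by
    have h2 : cM.det * algebraMap B L (g ^ kk) ∈ P' := hh₀ ▸ Ideal.mem_map_of_mem _ h1
    rcases hP'.mem_or_mem h2 with h3 | h3
    · exact hdet (Ideal.Quotient.eq_zero_iff_mem.2 h3)
    · exact hg (hP.mem_of_pow_mem _ (hcomap.le h3))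
  refine ⟨g * h₀, fun h1 => (hP.mem_or_mem h1).elim hg hh₀P, ?_⟩
  let Q := Localization.Away (g * h₀)
  have hu : IsUnit (algebraMap B Q g) ∧ IsUnit (algebraMap B Q h₀) :=
    IsUnit.mul_iff.1 (map_mul (algebraMap B Q) g h₀ ▸ IsLocalization.Away.algebraMap_isUnit (g * h₀))
  letI : Algebra L Q := (IsLocalization.Away.lift g hu.1).toAlgebra
  haveI : IsScalarTower B L Q :=
    IsScalarTower.of_algebraMap_eq fun x => (IsLocalization.Away.lift_eq g hu.1 x).symm
  haveI : Module.Flat L Q :=
    (Module.flat_iff_of_isLocalization L (Submonoid.powers g) Q).mpr inferInstance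
  let τ := algebraMap L Q
  have hC' : IsUnit (cM.map τ).det := by
    have e : (cM.map τ).det = τ cM.det := (RingHom.map_det τ cM).symm
    rw [e]
    have h1 : τ cM.det * τ (algebraMap B L (g ^ kk)) = τ (algebraMap B L h₀) := by
      rw [← map_mul]; exact congrArg τ hh₀
    have h2 : IsUnit (τ (algebraMap B L h₀)) := (IsScalarTower.algebraMap_apply B L Q h₀) ▸ hu.2
    exact isUnit_of_mul_isUnit_left (h1 ▸ h2)
  have hG : (cM.map τ).mulVec (fun i => τ (F i)) = fun i => τ (a i) := by
    funext i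
    show ∑ j, τ (c i j) * τ (F j) = _
    rw [← hc i, map_sum]
    simp only [map_mul]
  have hGi : ∀ i, τ (F i) = ∑ j, (cM.map τ)⁻¹ i j * τ (a j) := fun i => by
    have h2 : (cM.map τ)⁻¹.mulVec (fun i => τ (a i)) = fun i => τ (F i) := by
      rw [← hG, Matrix.mulVec_mulVec, Matrix.nonsing_inv_mul _ hC', Matrix.one_mulVec]
    exact (congrFun h2 i).symm
  have hex : IsExactK (fun i => τ (a i)) :=
    isExactK_of_matrix (isExactK_of_flat hF) (cM.map τ)⁻¹ (cM.map τ) hGi
      (fun i => (congrFun hG i).symm) (Matrix.mul_nonsing_inv _ hC')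
  convert hex using 2 with i
  show _ = algebraMap L Q (algebraMap A L (f i))
  rw [IsScalarTower.algebraMap_apply A B L, ← IsScalarTower.algebraMap_apply B L Q]

/-- The central descent statement for a globally generated ideal. -/
theorem exists_krGen_of_minimalAt (hsurj : Function.Surjective (PrimeSpectrum.comap (algebraMap A B)))
    {n : ℕ} (f : Fin n → A) (hB : LocKR ((Ideal.span (Set.range f)).map (algebraMap A B)))
    (p : Ideal A) [hp : p.IsPrime] (hmin : MinimalAt f p) :
    ∃ g, g ∉ p ∧ KRGen ((Ideal.span (Set.range f)).map (algebraMap A (Localization.Away g))) := by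
  classical
  let U : Set (PrimeSpectrum A) := {q | ExactAtPrime f q.asIdeal}
  let W : Set (PrimeSpectrum B) := {P | NearExact f P.asIdeal}
  have hW : IsOpen W := by
    rw [isOpen_iff_forall_mem_open]
    rintro P ⟨h, hh, hex⟩
    exact ⟨PrimeSpectrum.basicOpen h, fun P' hP' => ⟨h, hP', hex⟩,
      (PrimeSpectrum.basicOpen h).isOpen, hh⟩
  have hWU : W = PrimeSpectrum.comap (algebraMap A B) ⁻¹' U := by
    ext P
    refine ⟨fun h => NearExact.exactAtPrime (hP := P.isPrime) h, fun h => ?_⟩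
    by_cases hall : ∀ i, algebraMap A B (f i) ∈ P.asIdeal
    · refine @nearExact_of_minimalAt _ _ _ _ _ _ _ f hB P.asIdeal P.isPrime
        (ExactAtPrime.minimalAt (hq := inferInstance) h ?_)
      rw [Ideal.span_le]
      rintro _ ⟨i, rfl⟩
      exact hall i
    · push Not at hall
      obtain ⟨i, hi⟩ := hall
      exact nearExact_of_notMem f P.asIdeal i hi
  have hq := PrimeSpectrum.isQuotientMap_of_generalizingMap hsurj
    (RingHom.Flat.generalizingMap_comap ((RingHom.flat_algebraMap_iff).2 inferInstance))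
  have hU : IsOpen U := hq.isOpen_preimage.1 (hWU ▸ hW)
  obtain ⟨P, hP⟩ := hsurj ⟨p, hp⟩
  have hpU : (⟨p, hp⟩ : PrimeSpectrum A) ∈ U := by
    rw [← hP]
    refine NearExact.exactAtPrime (hP := P.isPrime) (nearExact_of_minimalAt f hB P.asIdeal ?_)
    have e : P.asIdeal.comap (algebraMap A B) = p := congrArg PrimeSpectrum.asIdeal hP
    rwa [e]
  obtain ⟨_, ⟨g, rfl⟩, hgp, hgU⟩ :=
    PrimeSpectrum.isTopologicalBasis_basic_opens.exists_subset_of_mem_open hpU hU
  refine ⟨g, hgp, ?_⟩
  let R := Localization.Away g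
  let σ := algebraMap A R
  refine ⟨n, fun i => σ (f i), ?_, by rw [Ideal.map_span, ← Set.range_comp]; rfl⟩
  intro x hx he
  obtain ⟨⟨s, hs⟩, x₀, hx₀⟩ := mapK_surj_num (Submonoid.powers g) x
  have h1 : mapK σ (D f x₀) = mapK σ 0 := by
    rw [mapK_D, ← hx₀, map_smul, hx, smul_zero, map_zero]
  obtain ⟨⟨t, ht⟩, hst⟩ := mapK_inj (Submonoid.powers g) _ _ h1
  rw [smul_zero] at hst
  have h2 : σ (eps (t • x₀)) ∈ (Ideal.span (Set.range f)).map σ := by
    rw [Ideal.map_span, ← Set.range_comp]
    have h3 : σ (eps (t • x₀)) = σ t * σ s * eps x := by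
      rw [map_smul, smul_eq_mul, map_mul, mul_assoc]
      congr 1
      exact (congrFun hx₀ (bot n)).symm
    rw [h3]
    exact Ideal.mul_mem_left _ _ he
  obtain ⟨⟨⟨b, hb⟩, ⟨t', ht'⟩⟩, hbt⟩ :=
    (IsLocalization.mem_map_algebraMap_iff (Submonoid.powers g) R).1 h2
  rw [← map_mul, IsLocalization.eq_iff_exists (Submonoid.powers g) R] at hbt
  obtain ⟨⟨t'', ht''⟩, hbt⟩ := hbt
  let x₁ : Kz A n := (t'' * t') • t • x₀
  have hx₁ : D f x₁ = 0 := by
    rw [show x₁ = (t'' * t') • t • x₀ from rfl, map_smul, map_smul, hst, smul_zero]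
  have he₁ : eps x₁ ∈ Ideal.span (Set.range f) := by
    have h4 : eps x₁ = t'' * b := by
      rw [show x₁ = (t'' * t') • t • x₀ from rfl, map_smul, smul_eq_mul, mul_assoc]
      simp only at hbt
      rw [← hbt]
      ring
    rw [h4]
    exact Ideal.mul_mem_left _ _ hb
  let T : Ideal A :=
    (LinearMap.range (D f)).comap (LinearMap.toSpanSingleton A (Kz A n) x₁)
  have hgT : g ∈ T.radical := by
    rw [Ideal.radical_eq_sInf, Ideal.mem_sInf]
    rintro q ⟨hTq, hq'⟩
    by_contra hgq
    obtain ⟨c, hc, hcx⟩ := hgU (show (⟨q, hq'⟩ : PrimeSpectrum A) ∈ _ from hgq) x₁ hx₁ he₁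
    exact hc (hTq hcx)
  obtain ⟨N, hN⟩ := hgT
  obtain ⟨w, hw⟩ := hN
  have hunit : IsUnit (σ (g ^ N * (t'' * t') * t * s)) := by
    simp only [map_mul, IsUnit.mul_iff]
    exact ⟨⟨⟨IsLocalization.map_units R (⟨_, N, rfl⟩ : Submonoid.powers g),
      IsLocalization.map_units R (⟨t'', ht''⟩ : Submonoid.powers g),
      IsLocalization.map_units R (⟨t', ht'⟩ : Submonoid.powers g)⟩,
      IsLocalization.map_units R (⟨t, ht⟩ : Submonoid.powers g)⟩,
      IsLocalization.map_units R (⟨s, hs⟩ : Submonoid.powers g)⟩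
  obtain ⟨u, hu⟩ := hunit
  refine ⟨(↑u⁻¹ : R) • mapK σ w, ?_⟩
  rw [map_smul, ← mapK_D, hw]
  have e : mapK σ (LinearMap.toSpanSingleton A (Kz A n) x₁ (g ^ N)) = (u : R) • x := by
    rw [LinearMap.toSpanSingleton_apply, show x₁ = (t'' * t') • t • x₀ from rfl, mapK_smul,
      mapK_smul, mapK_smul, ← hx₀, smul_smul, smul_smul, smul_smul, hu]
    simp only [map_mul, mul_assoc]
    rfl
  rw [e, smul_smul, Units.inv_mul, one_smul]

end Main

theorem fg_of_map_fg [Algebra A B] [Module.FaithfullyFlat A B] (I : Ideal A)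
    (h : (I.map (algebraMap A B)).FG) : I.FG := by
  classical
  rw [Ideal.map] at h
  obtain ⟨t, htI, ht⟩ := Submodule.fg_span_iff_fg_span_finset_subset _ |>.1 h
  choose x hx using fun y : (t : Set B) => htI y.2
  refine ⟨Finset.univ.image x, ?_⟩
  have hJ : Ideal.span (Set.range x) ≤ I := Ideal.span_le.2 (by rintro _ ⟨y, rfl⟩; exact (hx y).1)
  have he : (Ideal.span (Set.range x)).map (algebraMap A B) = I.map (algebraMap A B) := by
    refine le_antisymm (Ideal.map_mono hJ) ?_
    rw [Ideal.map]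
    refine ht.trans_le (Ideal.span_le.2 fun y hy => ?_)
    rw [Ideal.map_span]
    exact Ideal.subset_span ⟨x ⟨y, hy⟩, ⟨⟨y, hy⟩, rfl⟩, (hx ⟨y, hy⟩).2⟩
  rw [Finset.coe_image, Finset.coe_univ, Set.image_univ]
  calc Ideal.span (Set.range x) = _ := (Ideal.comap_map_eq_self_of_faithfullyFlat (B := B) _).symm
    _ = _ := by rw [he, Ideal.comap_map_eq_self_of_faithfullyFlat]

/-- Minimal generators near a prime. -/
theorem exists_minimalAt {I : Ideal A} (hI : I.FG) (p : Ideal A) [hp : p.IsPrime] :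
    ∃ g, g ∉ p ∧ ∃ (n : ℕ) (f : Fin n → A),
      Ideal.span (Set.range f) ≤ I ∧
      (Ideal.span (Set.range f)).map (algebraMap A (Localization.Away g)) =
        I.map (algebraMap A (Localization.Away g)) ∧
      MinimalAt f p := by
  classical
  have hex : ∃ n, ∃ g, g ∉ p ∧ ∃ f : Fin n → A, Ideal.span (Set.range f) ≤ I ∧
      ∀ x ∈ I, ∃ k, g ^ k * x ∈ Ideal.span (Set.range f) := by
    obtain ⟨n, f, hf⟩ := Submodule.fg_iff_exists_fin_generating_family.1 hI
    exact ⟨n, 1, fun h1 => hp.ne_top ((Ideal.eq_top_iff_one _).2 h1), f, hf.le,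
      fun x hx => ⟨0, by rw [pow_zero, one_mul]; exact hf.ge hx⟩⟩
  obtain ⟨g, hg, f, hle, hgen⟩ := Nat.find_spec hex
  refine ⟨g, hg, _, f, hle, le_antisymm (Ideal.map_mono hle) ?_, ?_⟩
  · rw [Ideal.map_le_iff_le_comap]
    intro x hx
    obtain ⟨k, hk⟩ := hgen x hx
    rw [Ideal.mem_comap, IsLocalization.mem_map_algebraMap_iff (Submonoid.powers g)]
    exact ⟨⟨⟨_, hk⟩, ⟨g ^ k, k, rfl⟩⟩, by simp [mul_comm]⟩
  · intro c hc j
    by_contra hj
    generalize hn : Nat.find hex = n at f hle hgen c hc j hj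
    cases n with
    | zero => exact j.elim0
    | succ m =>
      refine Nat.find_min hex (m := m) (by omega) ⟨g * c j, hp.mul_notMem hg hj, fun i => f (j.succAbove i), ?_, ?_⟩
      · exact le_trans (Ideal.span_mono (Set.range_comp_subset_range _ f)) hle
      · intro x hx
        obtain ⟨k, hk⟩ := hgen x hx
        refine ⟨k + 1, ?_⟩
        obtain ⟨v, hv⟩ := Ideal.mem_span_range_iff_exists_fun.1 hk
        have hj' : c j * f j ∈ Ideal.span (Set.range fun i => f (j.succAbove i)) := by
          rw [Fin.sum_univ_succAbove _ j, add_eq_zero_iff_eq_neg] at hc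
          rw [hc]
          exact (Ideal.span (Set.range fun i => f (j.succAbove i))).neg_mem (Submodule.sum_mem _ fun i _ =>
            Ideal.mul_mem_left _ _ (Ideal.subset_span ⟨i, rfl⟩))
        have e : (g * c j) ^ (k + 1) * x = g * c j ^ k * (c j * (g ^ k * x)) := by
          rw [mul_pow, pow_succ, pow_succ]; ring
        rw [e, ← hv, Fin.sum_univ_succAbove _ j, mul_add]
        refine Ideal.mul_mem_left _ _ (add_mem ?_ ?_)
        · rw [mul_left_comm]; exact Ideal.mul_mem_left _ _ hj'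
        · exact Ideal.mul_mem_left _ _ (Submodule.sum_mem _ fun i _ =>
            Ideal.mul_mem_left _ _ (Ideal.subset_span ⟨i, rfl⟩))

/-- A regular neighbourhood inside `D(g)` is one in `Spec A`. -/
theorem exists_of_away {I : Ideal A} (p : Ideal A) [hp : p.IsPrime] (g : A) (hg : g ∉ p)
    (g' : Localization.Away g) (hg' : g' ∉ p.map (algebraMap A (Localization.Away g)))
    (h : KRGen ((I.map (algebraMap A (Localization.Away g))).map
      (algebraMap (Localization.Away g) (Localization.Away g')))) :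
    ∃ u, u ∉ p ∧ KRGen (I.map (algebraMap A (Localization.Away u))) := by
  let P₁ := Localization.Away g
  obtain ⟨⟨g₀, ⟨_, k, rfl⟩⟩, hg₀⟩ := IsLocalization.surj (Submonoid.powers g) g'
  have hg₀p : g₀ ∉ p := fun h1 => hg' (by
    have h2 : g' * algebraMap A P₁ (g ^ k) ∈ p.map (algebraMap A P₁) :=
      hg₀ ▸ Ideal.mem_map_of_mem _ h1
    exact (Ideal.mul_unit_mem_iff_mem _ ((IsLocalization.map_units P₁
      (⟨g ^ k, k, rfl⟩ : Submonoid.powers g)))).1 h2)
  refine ⟨g * g₀, fun h1 => (hp.mem_or_mem h1).elim hg hg₀p, ?_⟩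
  let L := Localization.Away (g * g₀)
  have hun : IsUnit (algebraMap A L g) ∧ IsUnit (algebraMap A L g₀) :=
    IsUnit.mul_iff.1 (map_mul (algebraMap A L) g g₀ ▸ IsLocalization.Away.algebraMap_isUnit (g * g₀))
  letI : Algebra P₁ L := (IsLocalization.Away.lift g hun.1).toAlgebra
  haveI : IsScalarTower A P₁ L :=
    IsScalarTower.of_algebraMap_eq fun x => (IsLocalization.Away.lift_eq g hun.1 x).symm
  haveI : Module.Flat P₁ L :=
    (Module.flat_iff_of_isLocalization P₁ (Submonoid.powers g) L).mpr inferInstance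
  have h2 := KRGen.map_of_isUnit (R := L) (g := g') (by
    have h3 : algebraMap P₁ L g' * algebraMap P₁ L (algebraMap A P₁ (g ^ k)) =
        algebraMap P₁ L (algebraMap A P₁ g₀) := by
      rw [← map_mul]; exact congrArg _ hg₀
    have h4 : IsUnit (algebraMap P₁ L (algebraMap A P₁ g₀)) :=
      (IsScalarTower.algebraMap_apply A P₁ L g₀) ▸ hun.2
    exact isUnit_of_mul_isUnit_left (h3 ▸ h4)) h
  rwa [Ideal.map_map, ← IsScalarTower.algebraMap_eq] at h2

/-- Koszul-regular ideals are finitely generated. -/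
theorem LocKR.fg {J : Ideal A} (hJ : LocKR J) : J.FG := by
  classical
  have hloc : ∀ P : PrimeSpectrum A, ∃ h, h ∉ P.asIdeal ∧ ∃ t : Finset A, (↑t : Set A) ⊆ J ∧
      ∀ x ∈ J, ∃ k : ℕ, h ^ k * x ∈ Ideal.span (t : Set A) := by
    intro P
    by_cases hJP : J ≤ P.asIdeal
    · obtain ⟨g, hg, n, f, -, hf⟩ := hJ P.asIdeal P.isPrime hJP
      have hfg : (J.map (algebraMap A (Localization.Away g))).FG :=
        hf ▸ Submodule.fg_span (Set.finite_range f)
      rw [Ideal.map] at hfg
      obtain ⟨t, htJ, ht⟩ := Submodule.fg_span_iff_fg_span_finset_subset _ |>.1 hfg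
      choose x hx using fun y : (t : Set (Localization.Away g)) => htJ y.2
      refine ⟨g, hg, Finset.univ.image x, ?_, fun z hz => ?_⟩
      · rw [Finset.coe_image, Finset.coe_univ, Set.image_univ]
        rintro _ ⟨y, rfl⟩
        exact (hx y).1
      · rw [Finset.coe_image, Finset.coe_univ, Set.image_univ]
        have hzm : algebraMap A (Localization.Away g) z ∈
            (Ideal.span (Set.range x)).map (algebraMap A (Localization.Away g)) := by
          have h0 : algebraMap A (Localization.Away g) z ∈ Ideal.span (t : Set _) :=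
            ht.le (Submodule.subset_span ⟨z, hz, rfl⟩)
          refine Ideal.span_le.2 (fun y hy => ?_) h0
          rw [Ideal.map_span]
          exact Ideal.subset_span ⟨x ⟨y, hy⟩, ⟨⟨y, hy⟩, rfl⟩, (hx ⟨y, hy⟩).2⟩
        obtain ⟨⟨⟨b, hb⟩, ⟨_, k, rfl⟩⟩, hbk⟩ :=
          (IsLocalization.mem_map_algebraMap_iff (Submonoid.powers g) _).1 hzm
        rw [← map_mul, IsLocalization.eq_iff_exists (Submonoid.powers g)] at hbk
        obtain ⟨⟨_, l, rfl⟩, hl⟩ := hbk
        refine ⟨l + k, ?_⟩
        simp only at hl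
        rw [pow_add, mul_assoc, mul_comm (g ^ k) z, hl]
        exact Ideal.mul_mem_left _ _ hb
    · obtain ⟨h, hhJ, hhP⟩ := Set.not_subset.1 hJP
      exact ⟨h, hhP, {h}, by simpa using hhJ, fun x _ => ⟨1, by
        rw [pow_one]
        exact Ideal.mul_mem_right _ _ (Ideal.subset_span (Finset.mem_singleton_self h))⟩⟩
  choose h hh t htJ hgen using hloc
  obtain ⟨s, hs⟩ : ∃ s : Finset (PrimeSpectrum A), Ideal.span ((h '' ↑s) : Set A) = ⊤ := by
    have htop : Ideal.span (Set.range h) = ⊤ := by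
      by_contra hne
      obtain ⟨m, hm, hle⟩ := Ideal.exists_le_maximal _ hne
      exact hh ⟨m, hm.isPrime⟩ (hle (Ideal.subset_span ⟨_, rfl⟩))
    obtain ⟨u, hu, he⟩ := Submodule.mem_span_finite_of_mem_span ((Ideal.eq_top_iff_one _).1 htop)
    choose i hi using fun y : (u : Set A) => hu y.2
    refine ⟨Finset.univ.image i, (Ideal.eq_top_iff_one _).2 (Submodule.span_mono ?_ he)⟩
    intro y hy
    exact ⟨i ⟨y, hy⟩, by simp, hi ⟨y, hy⟩⟩
  refine ⟨s.biUnion t, le_antisymm (Ideal.span_le.2 ?_) fun x hx => ?_⟩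
  · intro y hy
    simp only [Finset.coe_biUnion, Set.mem_iUnion] at hy
    obtain ⟨P, -, hy⟩ := hy
    exact htJ P hy
  · refine Submodule.mem_of_span_eq_top_of_smul_pow_mem _ _ hs x ?_
    rintro ⟨_, P, hP, rfl⟩
    obtain ⟨k, hk⟩ := hgen P x hx
    exact ⟨k, Ideal.span_mono (fun y hy => Finset.mem_biUnion.2 ⟨P, hP, hy⟩) hk⟩

/-- Koszul-regularity descends along faithfully flat ring maps. -/
theorem LocKR.of_faithfullyFlat [Algebra A B] [Module.FaithfullyFlat A B] {I : Ideal A}
    (h : LocKR (I.map (algebraMap A B))) : LocKR I := by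
  intro p hp hIp
  obtain ⟨g, hg, n, f, hfI, hfg, hmin⟩ := exists_minimalAt (fg_of_map_fg I h.fg) p
  let A' := Localization.Away g
  let B' := Localization.Away (algebraMap A B g)
  haveI : Module.Flat B B' := inferInstance
  haveI : Module.Flat A B' := Module.Flat.trans A B B'
  have hgu : IsUnit (algebraMap A B' g) := by
    rw [IsScalarTower.algebraMap_apply A B B']; exact IsLocalization.Away.algebraMap_isUnit _
  letI : Algebra A' B' := (IsLocalization.Away.lift g hgu).toAlgebra
  haveI : IsScalarTower A A' B' :=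
    IsScalarTower.of_algebraMap_eq fun x => (IsLocalization.Away.lift_eq g hgu x).symm
  haveI : Module.Flat A' B' :=
    (Module.flat_iff_of_isLocalization A' (Submonoid.powers g) B').mpr inferInstance
  have hsurj : Function.Surjective (PrimeSpectrum.comap (algebraMap A' B')) := by
    intro q
    let q₀ := PrimeSpectrum.comap (algebraMap A A') q
    obtain ⟨P₀, hP₀⟩ := PrimeSpectrum.comap_surjective_of_faithfullyFlat (B := B) q₀
    have hgP : algebraMap A B g ∉ P₀.asIdeal := fun h1 => by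
      have h2 : g ∈ q₀.asIdeal := hP₀ ▸ h1
      exact q.isPrime.ne_top (Ideal.eq_top_of_isUnit_mem _ h2 (IsLocalization.Away.algebraMap_isUnit g))
    have hdisj : Disjoint (Submonoid.powers (algebraMap A B g) : Set B) P₀.asIdeal := by
      rw [Set.disjoint_left]
      rintro _ ⟨j, rfl⟩ hj
      exact hgP (P₀.isPrime.mem_of_pow_mem j hj)
    refine ⟨⟨P₀.asIdeal.map (algebraMap B B'),
      IsLocalization.isPrime_of_isPrime_disjoint (Submonoid.powers (algebraMap A B g)) B' _
        P₀.isPrime hdisj⟩, ?_⟩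
    refine PrimeSpectrum.localization_comap_injective A' (Submonoid.powers g) ?_
    change _ = q₀
    rw [← hP₀]
    ext1
    simp only [PrimeSpectrum.comap_asIdeal, Ideal.comap_comap]
    rw [← IsScalarTower.algebraMap_eq, IsScalarTower.algebraMap_eq A B B', ← Ideal.comap_comap]
    exact congrArg (Ideal.comap (algebraMap A B))
      (IsLocalization.comap_map_of_isPrime_disjoint (Submonoid.powers (algebraMap A B g)) B'
        P₀.isPrime hdisj)
  let f' : Fin n → A' := fun i => algebraMap A A' (f i)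
  have hI' : Ideal.span (Set.range f') = I.map (algebraMap A A') := by
    rw [← hfg, Ideal.map_span, ← Set.range_comp]
    rfl
  have hB' : LocKR ((Ideal.span (Set.range f')).map (algebraMap A' B')) := by
    rw [hI', Ideal.map_map, ← IsScalarTower.algebraMap_eq, IsScalarTower.algebraMap_eq A B B',
      ← Ideal.map_map]
    exact h.map_flat
  have hdisjA : Disjoint (Submonoid.powers g : Set A) p := by
    rw [Set.disjoint_left]
    rintro _ ⟨j, rfl⟩ hj
    exact hg (hp.mem_of_pow_mem j hj)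
  haveI : (p.map (algebraMap A A')).IsPrime :=
    IsLocalization.isPrime_of_isPrime_disjoint (Submonoid.powers g) A' p hp hdisjA
  have hmin' : MinimalAt f' (p.map (algebraMap A A')) := by
    intro c hc i
    obtain ⟨⟨s, hs⟩, hc₀⟩ := IsLocalization.exist_integer_multiples_of_finite (Submonoid.powers g) c
    choose c₀ hc₀ using hc₀
    have h1 : algebraMap A A' (∑ j, c₀ j * f j) = algebraMap A A' 0 := by
      rw [map_sum, map_zero]
      have he : ∀ j, algebraMap A A' (c₀ j * f j) = algebraMap A A' s * (c j * f' j) := fun j => by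
        rw [map_mul, hc₀ j, Algebra.smul_def, mul_assoc]
      rw [Finset.sum_congr rfl fun j _ => he j, ← Finset.mul_sum, hc, mul_zero]
    rw [IsLocalization.eq_iff_exists (Submonoid.powers g) A'] at h1
    obtain ⟨⟨_, N, rfl⟩, hN⟩ := h1
    have h2 : g ^ N * c₀ i ∈ p := hmin (fun j => g ^ N * c₀ j) (by
      simp only [mul_zero] at hN
      rw [← hN, Finset.mul_sum]
      exact Finset.sum_congr rfl fun j _ => mul_assoc _ _ _) i
    have h3 : c₀ i ∈ p := (hp.mem_or_mem h2).resolve_left fun h4 => hg (hp.mem_of_pow_mem _ h4)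
    have h4 : algebraMap A A' s * c i ∈ p.map (algebraMap A A') := by
      rw [← Algebra.smul_def, ← hc₀ i]; exact Ideal.mem_map_of_mem _ h3
    exact (Ideal.unit_mul_mem_iff_mem _ (IsLocalization.map_units A' (⟨s, hs⟩ : Submonoid.powers g))).1 h4
  obtain ⟨g', hg', hgen⟩ := exists_krGen_of_minimalAt hsurj f' hB' _ hmin'
  rw [hI'] at hgen
  exact exists_of_away p g hg g' hg' hgen

end

end KRLib
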