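import Groth.Agent.KRLib.Pres
import Groth.Agent.KRLib.FF
import Mathlib.RingTheory.TensorProduct.MvPolynomial
import Mathlib.LinearAlgebra.TensorProduct.Pi
import Mathlib.RingTheory.LocalIso
import Mathlib.RingTheory.Finiteness.Descent

/-!
# Descent of lci ring maps along jointly surjective flat families
-/

set_option autoImplicit false
set_option linter.style.haveILetI false

universe u

open TensorProduct MvPolynomial

namespace KRLib

noncomputable section

variable {A B : Type u} [CommRing A] [CommRing B] [Algebra A B]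

theorem faithfullyFlat_pi {ι : Type u} [Finite ι] (D : ι → Type u) [∀ i, CommRing (D i)]
    [∀ i, Algebra A (D i)] [∀ i, Module.Flat A (D i)]
    (hsurj : ∀ p : PrimeSpectrum A, ∃ i, ∃ q : PrimeSpectrum (D i),
      PrimeSpectrum.comap (algebraMap A (D i)) q = p) :
    Module.FaithfullyFlat A (∀ i, D i) := by
  classical
  have := Fintype.ofFinite ι
  haveI : Module.Flat A (∀ i, D i) :=
    Module.Flat.of_linearEquiv (DFinsupp.linearEquivFunOnFintype (R := A) (M := D)).symm
  refine Module.FaithfullyFlat.of_comap_surjective fun p => ?_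
  obtain ⟨i, q, hq⟩ := hsurj p
  refine ⟨PrimeSpectrum.comap (Pi.evalRingHom D i) q, ?_⟩
  rw [← hq, ← PrimeSpectrum.comap_comp_apply]
  rfl

attribute [local instance] MvPolynomial.algebraMvPolynomial in
/-- Descent of lci along a jointly surjective finite family of flat algebras. -/
theorem isLCI_of_jointly {ι : Type u} [Finite ι] (D : ι → Type u) [∀ i, CommRing (D i)]
    [∀ i, Algebra A (D i)] [∀ i, Module.Flat A (D i)]
    (hsurj : ∀ p : PrimeSpectrum A, ∃ i, ∃ q : PrimeSpectrum (D i),
      PrimeSpectrum.comap (algebraMap A (D i)) q = p)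
    (h : ∀ i, LCI.IsLCI (D i) (D i ⊗[A] B)) : LCI.IsLCI A B := by
  classical
  have := Fintype.ofFinite ι
  let A' := ∀ i, D i
  haveI : Module.FaithfullyFlat A A' := faithfullyFlat_pi D hsurj
  -- finite type
  have hft : ∀ i, ∃ s : Finset B,
      Algebra.adjoin (D i) ((fun b => (1 : D i) ⊗ₜ[A] b) '' (s : Set B)) = ⊤ := by
    intro i
    obtain ⟨s, hs⟩ := (h i).1.out
    choose k t m hx using fun x : (s : Set (D i ⊗[A] B)) => TensorProduct.exists_sum_tmul_eq x.1
    refine ⟨Finset.univ.biUnion fun x => Finset.univ.image (m x), ?_⟩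
    rw [eq_top_iff, ← hs, Algebra.adjoin_le_iff]
    intro x hxs
    rw [SetLike.mem_coe, show x = _ from (hx ⟨x, hxs⟩)]
    refine sum_mem fun j _ => ?_
    rw [show (t ⟨x, hxs⟩ j) ⊗ₜ[A] (m ⟨x, hxs⟩ j) =
      (t ⟨x, hxs⟩ j) • ((1 : D i) ⊗ₜ[A] (m ⟨x, hxs⟩ j)) by
        rw [TensorProduct.smul_tmul', smul_eq_mul, mul_one]]
    refine Subalgebra.smul_mem _ (Algebra.subset_adjoin ?_) _
    refine ⟨m ⟨x, hxs⟩ j, ?_, rfl⟩
    simp only [Finset.coe_biUnion, Set.mem_iUnion]
    exact ⟨⟨x, hxs⟩, by simp⟩
  choose s hs using hft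
  let T : Finset B := Finset.univ.biUnion s
  let α : MvPolynomial (Fin T.card) A →ₐ[A] B := aeval fun j => (T.equivFin.symm j : B)
  have hαi : ∀ i, Function.Surjective (Algebra.TensorProduct.map (AlgHom.id (D i) (D i)) α) := by
    intro i
    rw [← AlgHom.range_eq_top, eq_top_iff, ← hs i, Algebra.adjoin_le_iff]
    rintro _ ⟨b, hb, rfl⟩
    refine ⟨1 ⊗ₜ X (T.equivFin ⟨b, Finset.mem_biUnion.2 ⟨i, Finset.mem_univ _, hb⟩⟩), ?_⟩
    simp [α]
  have hnat : ∀ (u : (∀ i, D i) ⊗[A] MvPolynomial (Fin T.card) A) (i : ι),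
      TensorProduct.piLeft A B D (LinearMap.lTensor (∀ i, D i) α.toLinearMap u) i =
        LinearMap.lTensor (D i) α.toLinearMap
          (TensorProduct.piLeft A (MvPolynomial (Fin T.card) A) D u i) := fun u i => by
    induction u using TensorProduct.induction_on with
    | zero => simp
    | tmul c p => simp
    | add a b ha hb => simp only [map_add, Pi.add_apply, ha, hb]
  have hα : Function.Surjective α := by
    refine (Module.FaithfullyFlat.lTensor_surjective_iff_surjective A A' α.toLinearMap).1 fun t => ?_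
    choose v hv using fun i => hαi i (TensorProduct.piLeft A B D t i)
    refine ⟨(TensorProduct.piLeft A (MvPolynomial (Fin T.card) A) D).symm v, ?_⟩
    apply (TensorProduct.piLeft A B D).injective
    funext i
    rw [hnat, LinearEquiv.apply_symm_apply, ← hv i]
    rfl
  refine ⟨Algebra.FiniteType.of_surjective α hα, T.card, α, hα, (locKR_iff _).1 ?_⟩
  let P := MvPolynomial (Fin T.card) A
  let P' := MvPolynomial (Fin T.card) A'
  haveI : Module.FaithfullyFlat P P' := by
    haveI : Module.FaithfullyFlat P (P ⊗[A] A') := inferInstance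
    let e₀ : A' ⊗[A] P ≃ₐ[A] P' := (MvPolynomial.algebraTensorAlgEquiv A A').restrictScalars A
    let e₁ : (P ⊗[A] A') ≃+* P' := ((Algebra.TensorProduct.comm A P A').trans e₀).toRingEquiv
    exact Module.FaithfullyFlat.of_linearEquiv P (P ⊗[A] A')
      { e₁.symm.toAddEquiv with
        map_smul' := fun p x => by
          show e₁.symm (p • x) = p • e₁.symm x
          apply e₁.injective
          rw [RingEquiv.apply_symm_apply, Algebra.smul_def,
            show p • e₁.symm x = (p ⊗ₜ[A] (1 : A')) * e₁.symm x from Algebra.smul_def p (e₁.symm x), map_mul,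
            RingEquiv.apply_symm_apply]
          congr 1
          show _ = e₀ (Algebra.TensorProduct.comm A P A' (p ⊗ₜ[A] (1 : A')))
          rw [Algebra.TensorProduct.comm_tmul]
          show _ = (MvPolynomial.algebraTensorAlgEquiv A A') ((1 : A') ⊗ₜ[A] p)
          rw [MvPolynomial.algebraTensorAlgEquiv_tmul, one_smul]
          rfl }
  refine LocKR.of_faithfullyFlat (B := P') ?_
  let e : ι → A' := fun i => Pi.single i 1
  refine locKR_of_cover fun p hp _ => ?_
  have hex : ∃ i, MvPolynomial.C (σ := Fin T.card) (e i) ∉ p := by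
    by_contra! hc
    refine hp.ne_top ((Ideal.eq_top_iff_one _).2 ?_)
    have h1 : (1 : A') = ∑ i, e i := (Finset.univ_sum_single (fun i => (1 : D i))).symm
    rw [← map_one (MvPolynomial.C (σ := Fin T.card)), h1, map_sum]
    exact Submodule.sum_mem _ fun i _ => hc i
  obtain ⟨i, hi⟩ := hex
  refine ⟨MvPolynomial.C (e i), hi, ?_⟩
  let _ : Algebra A' (D i) := (Pi.evalAlgHom A D i).toAlgebra
  haveI : IsScalarTower A A' (D i) := IsScalarTower.of_algebraMap_eq fun _ => rfl
  haveI : IsLocalization.Away (e i) (D i) := by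
    apply IsLocalization.away_of_isIdempotentElem
    · show Pi.single i 1 * Pi.single i 1 = Pi.single i (1 : D i)
      rw [← Pi.single_mul, mul_one]
    · apply RingHom.ker_evalRingHom
    · apply (Pi.evalRingHom D i).surjective
  let Pi' := MvPolynomial (Fin T.card) (D i)
  haveI : IsLocalization.Away (MvPolynomial.C (σ := Fin T.card) (e i)) Pi' := by
    have h1 := MvPolynomial.isLocalization (σ := Fin T.card) (Submonoid.powers (e i)) (D i)
    rwa [Submonoid.map_powers] at h1
  haveI : IsScalarTower P P' Pi' := IsScalarTower.of_algebraMap_eq fun q => by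
    change MvPolynomial.map (algebraMap A (D i)) q =
      MvPolynomial.map (algebraMap A' (D i)) (MvPolynomial.map (algebraMap A A') q)
    rw [MvPolynomial.map_map, ← IsScalarTower.algebraMap_eq]
  let E : Pi' ≃ₐ[P'] Localization.Away (MvPolynomial.C (σ := Fin T.card) (e i)) :=
    IsLocalization.algEquiv (Submonoid.powers (MvPolynomial.C (σ := Fin T.card) (e i))) _ _
  suffices hs : LocKR (((RingHom.ker α.toRingHom).map (algebraMap P Pi'))) by
    have h2 := hs.map_bijective E.toRingEquiv.toRingHom E.bijective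
    convert h2 using 1
    rw [IsScalarTower.algebraMap_eq P P' Pi', ← Ideal.map_map (algebraMap P P'),
      Ideal.map_map (algebraMap P' Pi')]
    congr 1
    refine RingHom.ext fun x => ?_
    exact (E.commutes x).symm
  obtain ⟨-, n, β, hβ, hk⟩ := h i
  let γ : Pi' →ₐ[D i] D i ⊗[A] B :=
    (Algebra.TensorProduct.map (AlgHom.id (D i) (D i)) α).comp
      (MvPolynomial.algebraTensorAlgEquiv A (D i)).symm.toAlgHom
  have hγ : Function.Surjective γ := (hαi i).comp (AlgEquiv.surjective _)
  have h3 := locKR_ker_of_other γ hγ β hβ ((locKR_iff _).2 hk)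
  convert h3 using 1
  have hker : RingHom.ker (Algebra.TensorProduct.map (AlgHom.id A (D i)) α) =
      (RingHom.ker α).map (Algebra.TensorProduct.includeRight : P →ₐ[A] D i ⊗[A] P) :=
    Algebra.TensorProduct.lTensor_ker α hα
  let E' := (MvPolynomial.algebraTensorAlgEquiv (σ := Fin T.card) A (D i)).toRingEquiv
  have h4 : RingHom.ker γ.toRingHom =
      Ideal.comap E'.symm.toRingHom (RingHom.ker (Algebra.TensorProduct.map (AlgHom.id A (D i)) α)) := by
    ext x
    rfl
  rw [h4, hker]
  erw [Ideal.comap_symm E']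
  show _ = Ideal.map E'.toRingHom
    (Ideal.map (Algebra.TensorProduct.includeRight : P →ₐ[A] D i ⊗[A] P).toRingHom
      (RingHom.ker α.toRingHom))
  rw [Ideal.map_map]
  congr 1
  refine RingHom.ext fun x => ?_
  show algebraMap P Pi' x = MvPolynomial.algebraTensorAlgEquiv A (D i) ((1 : D i) ⊗ₜ[A] x)
  rw [MvPolynomial.algebraTensorAlgEquiv_tmul, one_smul]
  rfl

end

end KRLib
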