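import Groth.Agent.KRLib.Imm
import Groth.Agent.KRLib.Descent
import Mathlib.AlgebraicGeometry.Morphisms.Flat
import Mathlib.RingTheory.TensorProduct.Basic

/-!
# Koszul-regular immersions and flat base change
-/

set_option autoImplicit false
set_option linter.style.haveILetI false

universe u

open CategoryTheory AlgebraicGeometry TensorProduct

namespace KRLib

noncomputable section

theorem isPushout_surjective_ker {A B C P : Type u} [CommRing A] [CommRing B] [CommRing C] [CommRing P]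
    [Algebra A B] [Algebra A C] [Algebra A P] [Algebra B P] [Algebra C P] [IsScalarTower A B P]
    [IsScalarTower A C P] [Algebra.IsPushout A B C P] (hs : Function.Surjective (algebraMap A B)) :
    Function.Surjective (algebraMap C P) ∧
      RingHom.ker (algebraMap C P) = (RingHom.ker (algebraMap A B)).map (algebraMap A C) := by
  let e : B ⊗[A] C ≃ₐ[B] P := Algebra.IsPushout.equiv A B C P
  let f : A →ₐ[A] B := Algebra.ofId A B
  let l : A ⊗[A] C ≃+* C := (Algebra.TensorProduct.lid A C).toRingEquiv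
  have hφ : (algebraMap C P).comp l.toRingHom =
      e.toRingEquiv.toRingHom.comp
        (Algebra.TensorProduct.map f (AlgHom.id A C)).toRingHom := by
    refine RingHom.ext fun t => ?_
    induction t using TensorProduct.induction_on with
    | zero => simp
    | tmul a c =>
      show algebraMap C P (a • c) = e (algebraMap A B a ⊗ₜ[A] c)
      rw [Algebra.IsPushout.equiv_tmul, Algebra.smul_def, map_mul,
        ← IsScalarTower.algebraMap_apply, ← IsScalarTower.algebraMap_apply]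
    | add a b ha hb => simp only [map_add, ha, hb]
  have hmap : Function.Surjective (Algebra.TensorProduct.map f (AlgHom.id A C)) :=
    TensorProduct.map_surjective hs Function.surjective_id
  refine ⟨fun x => ?_, ?_⟩
  · obtain ⟨t, ht⟩ := (e.surjective.comp hmap) x
    exact ⟨l t, (congr($hφ t)).trans ht⟩
  · have hker : RingHom.ker (Algebra.TensorProduct.map f (AlgHom.id A C)) =
        (RingHom.ker f).map (Algebra.TensorProduct.includeLeft : A →ₐ[A] A ⊗[A] C) :=
      Algebra.TensorProduct.rTensor_ker f hs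
    have h1 : RingHom.ker ((algebraMap C P).comp l.toRingHom) =
        (RingHom.ker (algebraMap A B)).map
          (Algebra.TensorProduct.includeLeft : A →ₐ[A] A ⊗[A] C).toRingHom := by
      rw [hφ, RingHom.ker_comp_of_injective _ e.injective]
      exact hker
    rw [← Ideal.map_comap_of_surjective l.toRingHom l.surjective (RingHom.ker (algebraMap C P)),
      RingHom.comap_ker, h1, Ideal.map_map]
    congr 1
    refine RingHom.ext fun a => ?_
    show Algebra.TensorProduct.lid A C (a ⊗ₜ[A] (1 : C)) = algebraMap A C a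
    rw [Algebra.TensorProduct.lid_tmul, Algebra.smul_def, mul_one]

section BaseChange

variable {X Y X' Y' : Scheme.{u}} {i : Y ⟶ X} {g : X' ⟶ X} {i' : Y' ⟶ X'} {g' : Y' ⟶ Y}
  (hsq : IsPullback g' i' i g)

include hsq

/-- Closedness and the kernel after base change to an affine open. -/
theorem baseChange_data {U : X.Opens} (hU : IsAffineOpen U) (hU' : IsAffineOpen (i ⁻¹ᵁ U))
    (hs : Function.Surjective (i.app U)) {W : X'.Opens} (hW : IsAffineOpen W) (hWU : W ≤ g ⁻¹ᵁ U) :
    IsAffineOpen (i' ⁻¹ᵁ W) ∧ Function.Surjective (i'.app W) ∧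
      RingHom.ker (i'.app W).hom = (RingHom.ker (i.app U).hom).map (g.appLE U W hWU).hom := by
  have hUY : i' ⁻¹ᵁ W = g' ⁻¹ᵁ (i ⁻¹ᵁ U) ⊓ i' ⁻¹ᵁ W := by
    refine (inf_eq_right.2 fun x hx => ?_).symm
    show i (g' x) ∈ U
    rw [← Scheme.Hom.comp_apply, hsq.w]
    exact hWU hx
  have e1 : i' ⁻¹ᵁ W ≤ g' ⁻¹ᵁ (i ⁻¹ᵁ U) := by rw [hUY]; exact inf_le_left
  have haff : IsAffineOpen (i' ⁻¹ᵁ W) := by
    have : IsAffine _ := hU
    have : IsAffine _ := hU'
    have : IsAffine _ := hW
    exact .of_isIso (Scheme.Hom.isPullback_resLE hsq hWU (le_refl (i ⁻¹ᵁ U)) hUY).isoPullback.hom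
  have hpo := (isIso_pushoutSection_iff hsq hWU (le_refl (i ⁻¹ᵁ U)) hUY).mp
    (isIso_pushoutSection_of_isAffineOpen hsq hWU (le_refl (i ⁻¹ᵁ U)) hUY hU hW hU')
  algebraize [(i.appLE U (i ⁻¹ᵁ U) le_rfl).hom, (g.appLE U W hWU).hom,
    (g'.appLE (i ⁻¹ᵁ U) (i' ⁻¹ᵁ W) e1).hom, (i'.appLE W (i' ⁻¹ᵁ W) le_rfl).hom,
    ((g'.appLE (i ⁻¹ᵁ U) (i' ⁻¹ᵁ W) e1).hom.comp (i.appLE U (i ⁻¹ᵁ U) le_rfl).hom)]
  haveI : IsScalarTower Γ(X, U) Γ(X', W) Γ(Y', i' ⁻¹ᵁ W) := by
    refine IsScalarTower.of_algebraMap_eq' ?_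
    exact congrArg CommRingCat.Hom.hom hpo.w
  haveI : Algebra.IsPushout Γ(X, U) Γ(Y, i ⁻¹ᵁ U) Γ(X', W) Γ(Y', i' ⁻¹ᵁ W) :=
    CommRingCat.isPushout_iff_isPushout.mp hpo
  have hs' : Function.Surjective (algebraMap Γ(X, U) Γ(Y, i ⁻¹ᵁ U)) := by
    show Function.Surjective (i.appLE U (i ⁻¹ᵁ U) le_rfl).hom
    rw [← Scheme.Hom.app_eq_appLE]
    exact hs
  obtain ⟨h1, h2⟩ := isPushout_surjective_ker (A := Γ(X, U)) (B := Γ(Y, i ⁻¹ᵁ U))
    (C := Γ(X', W)) (P := Γ(Y', i' ⁻¹ᵁ W)) hs'
  refine ⟨haff, ?_, ?_⟩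
  · rw [Scheme.Hom.app_eq_appLE]; exact h1
  · rw [Scheme.Hom.app_eq_appLE, Scheme.Hom.app_eq_appLE]; exact h2

theorem GoodChart.baseChange [Flat g] {U : X.Opens} (h : GoodChart i U) {W : X'.Opens}
    (hW : IsAffineOpen W) (hWU : W ≤ g ⁻¹ᵁ U) : GoodChart i' W := by
  obtain ⟨h1, h2, h3⟩ := baseChange_data hsq h.isAffine h.isAffine_pre h.surjective hW hWU
  refine ⟨hW, h1, h2, ?_⟩
  letI := (g.appLE U W hWU).hom.toAlgebra
  haveI : Module.Flat Γ(X, U) Γ(X', W) := g.flat_appLE h.isAffine hW hWU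
  rw [h3]
  exact h.krGen.map_flat

end BaseChange

section Local

variable {X Z : Scheme.{u}} (i : Z ⟶ X)

/-- An immersion is closed over every affine open inside `coborderRange`. -/
theorem data_of_le_coborderRange [IsImmersion i] {U : X.Opens} (hU : IsAffineOpen U)
    (hle : U ≤ i.coborderRange) : IsAffineOpen (i ⁻¹ᵁ U) ∧ Function.Surjective (i.app U) := by
  let W := i.coborderRange
  let U₀ : (W : Scheme.{u}).Opens := W.ι ⁻¹ᵁ U
  have hU₀' : W.ι ''ᵁ U₀ = U := by
    rw [Scheme.Hom.image_preimage_eq_opensRange_inf, Scheme.Opens.opensRange_ι]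
    exact inf_eq_right.2 hle
  have hU₀ : IsAffineOpen U₀ := by
    rw [← W.ι.isAffineOpen_iff_of_isOpenImmersion, hU₀']; exact hU
  have hpre : i.liftCoborder ⁻¹ᵁ U₀ = i ⁻¹ᵁ U := by rw [i.liftCoborder_preimage, hU₀']
  refine ⟨hpre ▸ hU₀.preimage i.liftCoborder, ?_⟩
  have h := i.liftCoborder.app_surjective U₀ hU₀
  rw [liftCoborder_app] at h
  have h' : Function.Surjective (i.app (W.ι ''ᵁ U₀)) := by
    intro y
    obtain ⟨x, hx⟩ := h ((Z.presheaf.map (eqToHom <| i.liftCoborder_preimage U₀).op) y)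
    exact ⟨x, (ConcreteCategory.bijective_of_isIso
      (Z.presheaf.map (eqToHom <| i.liftCoborder_preimage U₀).op)).1 hx⟩
  rw [Scheme.Hom.app_eq_appLE] at h' ⊢
  exact (surjective_appLE_congr i _ _ hU₀' (by rw [hU₀'])).1 h'

variable {i}

/-- Regularity at every point gives Koszul-regularity of the ideal on any closed affine chart. -/
theorem locKR_ker_of_forall (hall : ∀ z : Z, RegImm.IsRegularImmersionAt .koszul i z) {W : X.Opens}
    (hW : IsAffineOpen W) (hW' : IsAffineOpen (i ⁻¹ᵁ W)) (hs : Function.Surjective (i.app W)) :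
    LocKR (RingHom.ker (i.app W).hom) := by
  intro p hp hle
  have hp' : (p.map (i.app W).hom).IsPrime := Ideal.map_isPrime_of_surjective hs hle
  let z : Z := hW'.fromSpec ⟨p.map (i.app W).hom, hp'⟩
  have hz : i z = hW.fromSpec ⟨p, hp⟩ := by
    have h1 := congrArg (fun φ : Spec Γ(Z, i ⁻¹ᵁ W) ⟶ X => φ ⟨p.map (i.app W).hom, hp'⟩)
      (IsAffineOpen.SpecMap_appLE_fromSpec i hW hW' (le_refl (i ⁻¹ᵁ W)))
    change hW.fromSpec (Spec.map (i.appLE W (i ⁻¹ᵁ W) le_rfl) ⟨p.map (i.app W).hom, hp'⟩) =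
      i (hW'.fromSpec ⟨p.map (i.app W).hom, hp'⟩) at h1
    refine Eq.trans h1.symm (congrArg hW.fromSpec ?_)
    refine PrimeSpectrum.ext ?_
    show (p.map (i.app W).hom).comap (i.appLE W (i ⁻¹ᵁ W) le_rfl).hom = p
    rw [← Scheme.Hom.app_eq_appLE, Ideal.comap_map_of_surjective _ hs]
    exact sup_eq_left.2 hle
  obtain ⟨U, hzU, hU⟩ := (isRegularImmersionAt_koszul_iff i z).1 (hall z)
  have hzW : i z ∈ W := by rw [hz, ← SetLike.mem_coe, ← hW.range_fromSpec]; exact ⟨_, rfl⟩
  obtain ⟨f, g, e, hmem⟩ := exists_basicOpen_le_affine_inter hW hU.isAffine (i z) ⟨hzW, hzU⟩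
  have hgood : GoodChart i (X.basicOpen f) := e ▸ hU.basicOpen g
  obtain ⟨-, -, hker⟩ := basicOpen_data i hW hW' hs f
  refine ⟨f, fun hfp => ?_, ?_⟩
  · have h2 : (⟨p, hp⟩ : Spec Γ(X, W)) ∈ PrimeSpectrum.basicOpen f := by
      rw [← hW.fromSpec_preimage_basicOpen f]
      show hW.fromSpec ⟨p, hp⟩ ∈ X.basicOpen f
      rw [← hz]; exact hmem
    exact h2 hfp
  · letI : Algebra Γ(X, W) Γ(X, X.basicOpen f) :=
      (X.presheaf.map (homOfLE (X.basicOpen_le f)).op).hom.toAlgebra
    haveI : IsLocalization.Away f Γ(X, X.basicOpen f) := hW.isLocalization_basicOpen f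
    have h3 := hgood.krGen
    rw [hker] at h3
    let E : Γ(X, X.basicOpen f) ≃ₐ[Γ(X, W)] Localization.Away f :=
      IsLocalization.algEquiv (Submonoid.powers f) _ _
    have h4 := h3.map_bijective E.toRingEquiv.toRingHom E.bijective
    rw [Ideal.map_map] at h4
    convert h4 using 2
    exact RingHom.ext fun x => (E.commutes x).symm

/-- A chart from a Koszul-regular kernel. -/
theorem exists_goodChart_of_locKR {U : X.Opens} (hU : IsAffineOpen U) (hU' : IsAffineOpen (i ⁻¹ᵁ U))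
    (hs : Function.Surjective (i.app U)) (h : LocKR (RingHom.ker (i.app U).hom)) (z : Z)
    (hz : i z ∈ U) : ∃ W : X.Opens, i z ∈ W ∧ GoodChart i W := by
  let p := hU.primeIdealOf ⟨i z, hz⟩
  have hp : hU.fromSpec p = i z := hU.fromSpec_primeIdealOf ⟨i z, hz⟩
  have hle : RingHom.ker (i.app U).hom ≤ p.asIdeal := fun a ha => by
    by_contra hna
    have h1 : i z ∈ X.basicOpen a := by
      rw [← hp]
      show p ∈ hU.fromSpec ⁻¹ᵁ X.basicOpen a
      rw [hU.fromSpec_preimage_basicOpen a]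
      exact hna
    have h2 : z ∈ i ⁻¹ᵁ X.basicOpen a := h1
    rw [Scheme.preimage_basicOpen, show i.app U a = 0 from ha, Scheme.basicOpen_zero] at h2
    exact h2
  obtain ⟨g, hg, hgen⟩ := h p.asIdeal p.isPrime hle
  obtain ⟨h1, h2, h3⟩ := basicOpen_data i hU hU' hs g
  refine ⟨X.basicOpen g, ?_, hU.basicOpen g, h1, h2, ?_⟩
  · rw [← hp]
    show p ∈ hU.fromSpec ⁻¹ᵁ X.basicOpen g
    rw [hU.fromSpec_preimage_basicOpen g]
    exact hg
  · letI : Algebra Γ(X, U) Γ(X, X.basicOpen g) :=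
      (X.presheaf.map (homOfLE (X.basicOpen_le g)).op).hom.toAlgebra
    haveI : IsLocalization.Away g Γ(X, X.basicOpen g) := hU.isLocalization_basicOpen g
    haveI : Module.Flat Γ(X, U) Γ(X, X.basicOpen g) := IsLocalization.flat _ (Submonoid.powers g)
    rw [h3]
    exact hgen.map_of_isUnit (IsLocalization.Away.algebraMap_isUnit g)

end Local

/-- Descent of Koszul-regularity along a jointly surjective flat family. -/
theorem LocKR.of_jointly {A : Type u} [CommRing A] {ι : Type u} [Finite ι] (D : ι → Type u)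
    [∀ i, CommRing (D i)] [∀ i, Algebra A (D i)] [∀ i, Module.Flat A (D i)]
    (hsurj : ∀ p : PrimeSpectrum A, ∃ i, ∃ q : PrimeSpectrum (D i),
      PrimeSpectrum.comap (algebraMap A (D i)) q = p) {I : Ideal A}
    (h : ∀ i, LocKR (I.map (algebraMap A (D i)))) : LocKR I := by
  classical
  have := Fintype.ofFinite ι
  let A' := ∀ i, D i
  haveI : Module.FaithfullyFlat A A' := faithfullyFlat_pi D hsurj
  refine LocKR.of_faithfullyFlat (B := A') (locKR_of_cover fun p hp _ => ?_)
  let e : ι → A' := fun i => Pi.single i 1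
  have hex : ∃ i, e i ∉ p := by
    by_contra! hc
    refine hp.ne_top ((Ideal.eq_top_iff_one _).2 ?_)
    rw [show (1 : A') = ∑ i, e i from (Finset.univ_sum_single (fun i => (1 : D i))).symm]
    exact Submodule.sum_mem _ fun i _ => hc i
  obtain ⟨i, hi⟩ := hex
  refine ⟨e i, hi, ?_⟩
  letI : Algebra A' (D i) := (Pi.evalAlgHom A D i).toAlgebra
  haveI : IsLocalization.Away (e i) (D i) := by
    apply IsLocalization.away_of_isIdempotentElem
    · show Pi.single i 1 * Pi.single i 1 = Pi.single i (1 : D i)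
      rw [← Pi.single_mul, mul_one]
    · apply RingHom.ker_evalRingHom
    · apply (Pi.evalRingHom D i).surjective
  let E : D i ≃ₐ[A'] Localization.Away (e i) :=
    IsLocalization.algEquiv (Submonoid.powers (e i)) _ _
  have h2 := (h i).map_bijective E.toRingEquiv.toRingHom E.bijective
  rw [Ideal.map_map] at h2 ⊢
  convert h2 using 2
  exact RingHom.ext fun x => (E.commutes _).symm

end

end KRLib
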