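import Groth.Agent.KoszDetLib.Cone

/-!
# Koszul exactness: ring maps, invertible matrices, concatenation
-/

set_option autoImplicit false

universe u v

open CategoryTheory CategoryTheory.Limits

namespace KRLib

open KoszDetLib

noncomputable section

variable {Q : Type u} [CommRing Q]

theorem isKoszulRegularSeq_of_isExactK {n : ℕ} (f : Fin n → Q) (hf : IsExactK f) :
    LCI.IsKoszulRegularSeq Q (List.ofFn f) := by
  intro i hi
  rw [← HomologicalComplex.exactAt_iff_isZero_homology,
    HomologicalComplex.exactAt_iff' _ (i - 1) i (i + 1) (by simp) (by simp),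
    ShortComplex.moduleCat_exact_iff]
  intro (z : (Koszul.koszul Q (List.ofFn f)).X i) hz
  have key : ∀ (j i : ℤ) (_ : j + 1 = i) (w : (Koszul.koszul Q (List.ofFn f)).X j),
      emb f i (((Koszul.koszul Q (List.ofFn f)).d j i).hom w) = D f (emb f j w) := by
    rintro j i rfl w
    exact emb_d f j w
  have hz' : ((Koszul.koszul Q (List.ofFn f)).d i (i + 1)).hom z = 0 := hz
  have hcyc : D f (emb f i z) = 0 := by rw [← key i (i + 1) rfl, hz', map_zero]
  have hdeg : ∀ {n : ℕ} (f : Fin n → Q) (i : ℤ) (z : (Koszul.koszul Q (List.ofFn f)).X i) (s : Idx n),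
      (i + (deg s : ℤ) ≠ 0) → emb f i z s = 0 := by
    intro n
    induction n with
    | zero =>
      intro f i z s hs
      have h : i ≠ 0 := by simpa [deg] using hs
      simp [emb, dif_neg h]
    | succ n ih =>
      intro f i z s hs
      rw [emb_succ]
      cases s with
      | inl t => exact ih _ i _ t hs
      | inr t =>
        refine ih _ (i + 1) _ t ?_
        have : (deg (n := n + 1) (Sum.inr t) : ℤ) = (deg t : ℤ) + 1 := by simp [deg]
        omega
  have heps : eps (emb f i z) = 0 := hdeg f i z (bot n) (by simp [deg_bot, hi])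
  obtain ⟨w, hw⟩ := hf _ hcyc (by rw [heps]; exact Ideal.zero_mem _)
  rcases le_or_gt i 0 with hle | hgt
  · obtain ⟨p, hp⟩ : ∃ p : ℕ, i + (p : ℤ) = 0 := ⟨(-i).toNat, by omega⟩
    obtain ⟨y, hy⟩ := emb_surj f (i - 1) (p + 1) (by push_cast; omega) w
    refine ⟨y, emb_injective f i ?_⟩
    refine (key (i - 1) i (by omega) y).trans ?_
    rw [hy, D_proj_succ, hw]
    funext s
    rw [proj_apply]
    split_ifs with h
    · rfl
    · exact (hdeg f i z s (by omega)).symm
  · refine ⟨0, emb_injective f i ?_⟩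
    funext s
    rw [hdeg f i z s (by omega)]
    erw [map_zero, map_zero]
    rfl

section Map

variable {R : Type u} [CommRing R] (σ : Q →+* R)

/-- Coordinatewise image. -/
def mapK {n : ℕ} : Kz Q n →+ Kz R n := σ.toAddMonoidHom.compLeft (Idx n)

theorem mapK_smul {n : ℕ} (c : Q) (x : Kz Q n) : mapK σ (c • x) = σ c • mapK σ x :=
  funext fun _ => map_mul σ _ _

theorem mapK_D : ∀ {n : ℕ} (f : Fin n → Q) (x : Kz Q n),
    mapK σ (D f x) = D (fun i => σ (f i)) (mapK σ x)
  | 0, _, _ => map_zero _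
  | n + 1, f, x => by
    refine join_ext ?_ ?_
    · show mapK σ (pa (D f x)) = _
      rw [pa_D, pa_D, map_add, mapK_smul, mapK_D (Fin.tail f)]
      rfl
    · show mapK σ (pb (D f x)) = _
      rw [pb_D, pb_D, map_neg, mapK_D (Fin.tail f)]
      rfl

theorem isExactK_of_ringEquiv (σ : Q ≃+* R) {n : ℕ} {f : Fin n → Q} (hf : IsExactK f) :
    IsExactK (fun i => σ (f i)) := by
  intro y hy he
  let x : Kz Q n := mapK σ.symm.toRingHom y
  have hx : mapK σ.toRingHom x = y := funext fun s => σ.apply_symm_apply _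
  have hD : D f x = 0 := by
    have h : mapK σ.toRingHom (D f x) = mapK σ.toRingHom 0 := by
      rw [mapK_D, hx, map_zero]
      exact hy
    funext s
    exact σ.injective (congrFun h s)
  have he' : eps x ∈ Ideal.span (Set.range f) := by
    have h := Ideal.mem_map_of_mem σ.symm.toRingHom he
    rw [Ideal.map_span, ← Set.range_comp] at h
    simpa [x, Function.comp_def, eps, mapK] using h
  obtain ⟨w, hw⟩ := hf x hD he'
  refine ⟨mapK σ.toRingHom w, ?_⟩
  rw [← hx, ← hw, mapK_D]
  rfl

theorem isExactK_of_flat [Algebra Q R] [Module.Flat Q R] {n : ℕ} {f : Fin n → Q} (hf : IsExactK f) :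
    IsExactK (fun i => algebraMap Q R (f i)) := by
  have h := isExactK_of_ringEquiv (Algebra.TensorProduct.lid Q R).toRingEquiv
    (isExactK_baseChange (A := Q) (B := R) f hf)
  convert h using 2
  simp [bcF, Algebra.smul_def]

end Map

section Matrix

theorem L_zero {n : ℕ} (x : Kz Q n) : L (0 : Fin n → Q) x = 0 := by
  simpa using L_smul (0 : Q) (0 : Fin n → Q) x

theorem L_sum {ι : Type v} (s : Finset ι) {n : ℕ} (v : ι → Fin n → Q) (x : Kz Q n) :
    L (∑ i ∈ s, v i) x = ∑ i ∈ s, L (v i) x := by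
  classical
  induction s using Finset.induction_on with
  | empty => simp [L_zero]
  | insert a t ha ih => rw [Finset.sum_insert ha, Finset.sum_insert ha, L_add, ih]

theorem phi_L : ∀ {m n : ℕ} (c : Fin m → Fin n → Q) (v : Fin m → Q) (x : Kz Q m),
    phi c (L v x) = L (fun j => ∑ i, v i * c i j) (phi c x)
  | 0, n, c, v, x => by
    show phi c (0 : Kz Q 0) = _
    rw [map_zero, show (fun j => ∑ i, v i * c i j) = (0 : Fin n → Q) by funext j; simp, L_zero]
  | m + 1, n, c, v, x => by
    have hv : (fun j => ∑ i, v i * c i j) =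
        v 0 • c 0 + fun j => ∑ i, Fin.tail v i * Fin.tail c i j := by
      funext j; simp [Fin.sum_univ_succ, Fin.tail]
    show phi (Fin.tail c) (pa (L v x)) + L (c 0) (phi (Fin.tail c) (pb (L v x))) =
      L _ (phi (Fin.tail c) (pa x) + L (c 0) (phi (Fin.tail c) (pb x)))
    rw [pa_L, pb_L, map_sub, map_smul, phi_L, phi_L, hv, map_sub, map_smul, map_add, L_add, L_add,
      L_smul, L_smul, L_L, smul_zero, L_comm (fun j => ∑ i, Fin.tail v i * Fin.tail c i j) (c 0)]
    abel

theorem phi_one_vec : ∀ {m n : ℕ} (c : Fin m → Fin n → Q), phi c (one m) = one n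
  | 0, n, _ => by show (1 : Q) • (one n : Kz Q n) = one n; rw [one_smul]
  | m + 1, n, c => by
    show phi (Fin.tail c) (one m) + L (c 0) (phi (Fin.tail c) (0 : Kz Q m)) = one n
    rw [map_zero, map_zero, add_zero, phi_one_vec]

theorem phi_phi : ∀ {l m n : ℕ} (d : Fin l → Fin m → Q) (c : Fin m → Fin n → Q) (x : Kz Q l),
    phi c (phi d x) = phi (fun a j => ∑ i, d a i * c i j) x
  | 0, m, n, d, c, x => by
    show phi c (x (bot 0) • one m) = x (bot 0) • one n
    rw [map_smul, phi_one_vec]
  | l + 1, m, n, d, c, x => by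
    show phi c (phi (Fin.tail d) (pa x) + L (d 0) (phi (Fin.tail d) (pb x))) = _
    rw [map_add, phi_L, phi_phi (Fin.tail d) c, phi_phi (Fin.tail d) c]
    rfl

theorem phi_shift : ∀ {m n : ℕ} (v : Fin m → Fin n → Q) (x : Kz Q m),
    phi (fun i => (Fin.cons 0 (v i) : Fin (n + 1) → Q)) x = join (phi v x, 0)
  | 0, n, _, x => by
    show x (bot 0) • (one (n + 1) : Kz Q (n + 1)) = join (x (bot 0) • (one n : Kz Q n), 0)
    refine join_ext ?_ ?_
    · rw [map_smul]; rfl
    · rw [map_smul]; exact smul_zero _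
  | m + 1, n, v, x => by
    show phi (fun i => Fin.cons 0 (Fin.tail v i)) (pa x) +
      L (Fin.cons 0 (v 0)) (phi (fun i => Fin.cons 0 (Fin.tail v i)) (pb x)) = _
    rw [phi_shift, phi_shift]
    refine join_ext ?_ ?_
    · rw [map_add, pa_L]; rfl
    · rw [map_add, pb_L]; simp [phi]

theorem phi_id : ∀ {n : ℕ} (x : Kz Q n), phi (fun i => (Pi.single i 1 : Fin n → Q)) x = x
  | 0, x => by
    show x (bot 0) • one 0 = x
    funext s
    simp [one, eq_bot_of_deg s rfl]
  | n + 1, x => by
    have h : Fin.tail (fun i => (Pi.single i 1 : Fin (n + 1) → Q)) =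
        fun i => Fin.cons 0 (Pi.single i 1 : Fin n → Q) := by
      funext i j
      induction j using Fin.cases with
      | zero => simp [Fin.tail]
      | succ j => simp [Fin.tail, Pi.single_apply]
    show phi (Fin.tail (fun i => (Pi.single i 1 : Fin (n + 1) → Q))) (pa x) +
      L (Pi.single 0 1 : Fin (n + 1) → Q) (phi (Fin.tail (fun i => (Pi.single i 1 : Fin (n + 1) → Q))) (pb x)) = x
    rw [h, phi_shift, phi_shift, phi_id, phi_id]
    have h0 : Fin.tail (Pi.single 0 1 : Fin (n + 1) → Q) = 0 := by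
      funext j; simp [Fin.tail]
    refine join_ext ?_ ?_
    · rw [map_add, pa_L, h0, L_zero]; simp
    · rw [map_add, pb_L, h0, L_zero]; simp

theorem span_le_of_matrix {m n : ℕ} {f : Fin m → Q} {g : Fin n → Q} (c : Fin m → Fin n → Q)
    (hc : ∀ i, f i = ∑ j, c i j * g j) : Ideal.span (Set.range f) ≤ Ideal.span (Set.range g) := by
  rw [Ideal.span_le]
  rintro _ ⟨i, rfl⟩
  rw [hc i]
  exact Submodule.sum_mem _ fun j _ => Ideal.mul_mem_left _ _ (Ideal.subset_span ⟨j, rfl⟩)

/-- Koszul exactness depends on the sequence only up to an invertible change of generators. -/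
theorem isExactK_of_matrix {m n : ℕ} {f : Fin m → Q} {g : Fin n → Q} (hf : IsExactK f)
    (c : Matrix (Fin m) (Fin n) Q) (d : Matrix (Fin n) (Fin m) Q)
    (hc : ∀ i, f i = ∑ j, c i j * g j) (hd : ∀ i, g i = ∑ j, d i j * f j)
    (hdc : d * c = 1) : IsExactK g := by
  intro x hx he
  have hinv : ∀ y : Kz Q n, phi (fun i j => c i j) (phi (fun i j => d i j) y) = y := fun y => by
    rw [phi_phi]
    convert phi_id y using 3
    funext a j
    rw [← Matrix.mul_apply, hdc, Matrix.one_apply, Pi.single_apply]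
    simp [eq_comm]
  have h1 : D f (phi (fun i j => d i j) x) = 0 := by
    rw [D_phi _ g f hd, hx, map_zero]
  obtain ⟨w, hw⟩ := hf _ h1 (by rw [eps_phi]; exact span_le_of_matrix _ hd he)
  refine ⟨phi (fun i j => c i j) w, ?_⟩
  rw [D_phi _ f g hc, hw, hinv]

end Matrix

section Append

/-- `g` followed by `f`, indexed to match the recursion of the model. -/
def app {α : Type v} {n : ℕ} : ∀ {m : ℕ}, (Fin m → α) → (Fin n → α) → Fin (n + m) → α
  | 0, _, f => f
  | _ + 1, g, f => Fin.cons (g 0) (app (Fin.tail g) f)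

theorem tail_app {α : Type v} {m n : ℕ} (g : Fin (m + 1) → α) (f : Fin n → α) :
    Fin.tail (n := n + m) (app (n := n) (m := m + 1) g f) = app (n := n) (m := m) (Fin.tail g) f := by
  simp [app, Fin.tail_cons]

theorem app_zero {α : Type v} {m n : ℕ} (g : Fin (m + 1) → α) (f : Fin n → α) :
    app g f 0 = g 0 := by
  simp [app]

theorem range_app {α : Type v} {n : ℕ} : ∀ {m : ℕ} (g : Fin m → α) (f : Fin n → α),
    Set.range (app g f) = Set.range g ∪ Set.range f
  | 0, g, f => by simp [app, Set.range_eq_empty g]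
  | m + 1, g, f => by
    show Set.range (Fin.cons (g 0) (app (Fin.tail g) f) : Fin (n + m + 1) → α) = _
    rw [Fin.range_cons, range_app, ← Set.insert_union, ← Fin.range_cons, Fin.cons_self_tail]

theorem app_map {α β : Type v} (φ : α → β) {n : ℕ} : ∀ {m : ℕ} (g : Fin m → α) (f : Fin n → α)
    (i : Fin (n + m)), φ (app g f i) = app (φ ∘ g) (φ ∘ f) i
  | 0, _, _, _ => rfl
  | m + 1, g, f, i => by
    induction i using Fin.cases with
    | zero => simp [app]
    | succ j =>
      simp only [app, Fin.cons_succ]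
      exact app_map φ (Fin.tail g) f j

variable {R : Type u} [CommRing R] (σ : Q →+* R) {n : ℕ}

/-- The comparison with the Koszul complex over the quotient. -/
def piK : ∀ (m : ℕ), Kz Q (n + m) →+ Kz R m
  | 0 => { toFun := fun x _ => σ (eps x)
           map_zero' := by funext; simp
           map_add' := fun x y => by funext; simp }
  | m + 1 =>
    { toFun := fun x => join (piK m (pa x), piK m (pb x))
      map_zero' := by simp only [map_zero, Prod.mk_zero_zero]
      map_add' := fun x y => by rw [map_add, map_add, map_add, map_add]; exact map_add join (_, _) (_, _) }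

theorem piK_succ (m : ℕ) (x : Kz Q (n + (m + 1))) :
    piK σ (m + 1) x = join (piK σ m (pa x), piK σ m (pb x)) := rfl

theorem piK_smul : ∀ (m : ℕ) (c : Q) (x : Kz Q (n + m)), piK σ m (c • x) = σ c • piK σ m x
  | 0, c, x => funext fun _ => by
    show σ (eps (c • x)) = σ c • σ (eps x)
    simp
  | m + 1, c, x => by
    rw [piK_succ, piK_succ, show pa (c • x) = c • pa x from map_smul pa c x,
      show pb (c • x) = c • pb x from map_smul pb c x, piK_smul, piK_smul]
    exact map_smul join (σ c) (_, _)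

theorem eps_piK : ∀ (m : ℕ) (x : Kz Q (n + m)), eps (piK σ m x) = σ (eps x)
  | 0, _ => rfl
  | m + 1, x => eps_piK m (pa x)

theorem piK_D (f : Fin n → Q) (hfσ : Ideal.span (Set.range f) ≤ RingHom.ker σ) :
    ∀ {m : ℕ} (g : Fin m → Q) (x : Kz Q (n + m)),
      piK σ m (D (app g f) x) = D (σ ∘ g) (piK σ m x)
  | 0, g, x => by
    funext
    exact hfσ (eps_D_mem f x)
  | m + 1, g, x => by
    rw [piK_succ]
    refine join_ext ?_ ?_
    · rw [pa_join, pa_D, pa_D, tail_app, app_zero, map_add, piK_smul, piK_D f hfσ (Fin.tail g),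
        piK_succ, pa_join, pb_join]
      rfl
    · rw [pb_join, pb_D, pb_D, tail_app, map_neg, piK_D f hfσ (Fin.tail g), piK_succ, pb_join]
      rfl

theorem piK_surjective (hσ : Function.Surjective σ) :
    ∀ (m : ℕ) (z : Kz R m), ∃ x : Kz Q (n + m), piK (n := n) σ m x = z
  | 0, z => by
    obtain ⟨q, hq⟩ := hσ (z (bot 0))
    refine ⟨q • (one n : Kz Q n), funext fun s => ?_⟩
    show σ (eps (q • (one n : Kz Q n))) = z s
    rw [map_smul, eps_one, smul_eq_mul, mul_one, hq, eq_bot_of_deg s rfl]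
  | m + 1, z => by
    obtain ⟨a, ha⟩ := piK_surjective hσ m (pa z)
    obtain ⟨b, hb⟩ := piK_surjective hσ m (pb z)
    refine ⟨join (a, b), ?_⟩
    rw [piK_succ]
    exact join_ext (by simp [ha]) (by simp [hb])

theorem piK_ker_exact (f : Fin n → Q) (hf : IsExactK f)
    (hfσ : Ideal.span (Set.range f) = RingHom.ker σ) :
    ∀ {m : ℕ} (g : Fin m → Q) (x : Kz Q (n + m)), piK σ m x = 0 → D (app g f) x = 0 →
      ∃ y, piK σ m y = 0 ∧ D (app g f) y = x
  | 0, g, x, h1, h2 => by
    obtain ⟨y, hy⟩ := hf x h2 (by rw [hfσ]; exact congrFun h1 (bot 0))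
    refine ⟨y - proj 0 y, funext fun _ => ?_, ?_⟩
    · show σ (eps (y - proj 0 y)) = 0
      rw [map_sub, proj_zero_eq, map_smul, eps_one, smul_eq_mul, mul_one, sub_self, map_zero]
    · show D f (y - proj 0 y) = x
      rw [map_sub, D_proj_zero, sub_zero, hy]
  | m + 1, g, x, h1, h2 => by
    rw [piK_succ] at h1
    have ha : piK σ m (pa x) = 0 := congrArg pa h1
    have hb : piK σ m (pb x) = 0 := congrArg pb h1
    have hDb : D (app (Fin.tail g) f) (pb x) = 0 := by
      have := congrArg pb h2
      rwa [pb_D, tail_app, map_zero, neg_eq_zero] at this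
    have hDa : D (app (Fin.tail g) f) (pa x) + g 0 • pb x = 0 := by
      have := congrArg pa h2
      rwa [pa_D, tail_app, app_zero, map_zero] at this
    obtain ⟨b', hb1, hb2⟩ := piK_ker_exact f hf hfσ (Fin.tail g) (pb x) hb hDb
    obtain ⟨a', ha1, ha2⟩ := piK_ker_exact f hf hfσ (Fin.tail g) (pa x + g 0 • b')
      (by rw [map_add, piK_smul, ha, hb1, smul_zero, add_zero])
      (by rw [map_add, map_smul, hb2, hDa])
    refine ⟨join (a', -b'), ?_, join_ext ?_ ?_⟩
    · rw [piK_succ, pa_join, pb_join, map_neg, ha1, hb1, neg_zero]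
      exact map_zero _
    · rw [pa_D, pa_join, pb_join, tail_app, app_zero, ha2, smul_neg, add_neg_cancel_right]
    · rw [pb_D, pb_join, tail_app, map_neg, neg_neg, hb2]

theorem eps_mem_app_iff (f : Fin n → Q) (hfσ : Ideal.span (Set.range f) = RingHom.ker σ)
    (hσ : Function.Surjective σ) {m : ℕ} (g : Fin m → Q) (q : Q) :
    q ∈ Ideal.span (Set.range (app g f)) ↔ σ q ∈ Ideal.span (Set.range (σ ∘ g)) := by
  rw [range_app, Ideal.span_union, hfσ, Set.range_comp, ← Ideal.map_span, ← Ideal.mem_comap,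
    Ideal.comap_map_of_surjective _ hσ]
  rfl

/-- Concatenation: `f` exact and `g` exact modulo `f` make `(g, f)` exact. -/
theorem isExactK_app (f : Fin n → Q) (hf : IsExactK f)
    (hfσ : Ideal.span (Set.range f) = RingHom.ker σ) (hσ : Function.Surjective σ)
    {m : ℕ} (g : Fin m → Q) (hg : IsExactK (σ ∘ g)) : IsExactK (app g f) := by
  intro x hx he
  obtain ⟨z, hz⟩ := hg (piK σ m x) (by rw [← piK_D σ f hfσ.le g, hx, map_zero])
    (by rw [eps_piK]; exact (eps_mem_app_iff σ f hfσ hσ g _).1 he)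
  obtain ⟨y, rfl⟩ := piK_surjective (n := n) σ hσ m z
  obtain ⟨y', -, hy'⟩ := piK_ker_exact σ f hf hfσ g (x - D (app g f) y)
    (by rw [map_sub, piK_D σ f hfσ.le g, hz, sub_self]) (by rw [map_sub, hx, D_D, sub_zero])
  exact ⟨y + y', by rw [map_add, hy']; abel⟩

/-- Deconcatenation: if `f` and `(g, f)` are exact, `g` is exact modulo `f`. -/
theorem isExactK_of_app (f : Fin n → Q) (hf : IsExactK f)
    (hfσ : Ideal.span (Set.range f) = RingHom.ker σ) (hσ : Function.Surjective σ)
    {m : ℕ} (g : Fin m → Q) (hgf : IsExactK (app g f)) : IsExactK (σ ∘ g) := by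
  intro z hz he
  obtain ⟨x, rfl⟩ := piK_surjective (n := n) σ hσ m z
  rw [eps_piK] at he
  obtain ⟨y, hy1, hy2⟩ := piK_ker_exact σ f hf hfσ g (D (app g f) x)
    (by rw [piK_D σ f hfσ.le g, hz]) (D_D _ _)
  obtain ⟨w, hw⟩ := hgf (x - y) (by rw [map_sub, hy2, sub_self])
    ((eps_mem_app_iff σ f hfσ hσ g _).2 (by
      rw [map_sub, map_sub, ← eps_piK σ m y, hy1, map_zero, sub_zero]; exact he))
  exact ⟨piK σ m w, by rw [← piK_D σ f hfσ.le g, hw, map_sub, hy1, sub_zero]⟩

end Append

theorem isExactK_empty (f : Fin 0 → Q) : IsExactK f := by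
  intro x _ he
  refine ⟨0, ?_⟩
  rw [Set.range_eq_empty, Ideal.span_empty, Ideal.mem_bot] at he
  rw [map_zero]
  funext s
  rw [eq_bot_of_deg s rfl]
  exact he.symm

theorem isExactK_single (a : Q) (ha : ∀ x, a * x = 0 → x = 0) : IsExactK (fun _ : Fin 1 => a) := by
  intro x hx he
  have hb : pb x = 0 := by
    funext s
    have := congrFun (congrArg pa hx) s
    rw [pa_D] at this
    simp [D] at this
    exact ha _ this
  rw [Set.range_const, Ideal.mem_span_singleton] at he
  obtain ⟨c, hc⟩ := he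
  refine ⟨join (0, fun _ => c), join_ext ?_ ?_⟩
  · funext s
    rw [pa_D, pa_join, pb_join, eq_bot_of_deg s rfl]
    simp [D]
    exact hc.symm
  · rw [pb_D, pb_join, hb]
    simp [D]

/-- Coefficients of a relation between exact elements lie in their ideal. -/
theorem coeff_mem_of_relation {n : ℕ} {f : Fin n → Q} (hf : IsExactK f) (a : Fin n → Q)
    (h : ∑ i, a i * f i = 0) (i : Fin n) : a i ∈ Ideal.span (Set.range f) := by
  have h1 : D f (L a (one n)) = 0 := by
    have := D_L f a (one n)
    rwa [D_one, map_zero, add_zero, h, zero_smul] at this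
  obtain ⟨w, hw⟩ := hf _ h1 (by rw [eps_L]; exact Ideal.zero_mem _)
  have key : ∀ {n : ℕ} (a : Fin n → Q) (i : Fin n), ∃ s : Idx n, L a (one n) s = a i := by
    intro n
    induction n with
    | zero => exact fun _ i => i.elim0
    | succ n ih =>
      intro a i
      induction i using Fin.cases with
      | zero =>
        refine ⟨Sum.inr (bot n), ?_⟩
        show pb (L a (one (n + 1))) (bot n) = a 0
        rw [pb_L, show pa (one (n + 1) : Kz Q (n + 1)) = one n from rfl,
          show pb (one (n + 1) : Kz Q (n + 1)) = 0 from rfl, map_zero, sub_zero]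
        show a 0 * eps (one n : Kz Q n) = a 0
        rw [eps_one, mul_one]
      | succ j =>
        obtain ⟨s, hs⟩ := ih (Fin.tail a) j
        exact ⟨Sum.inl s, hs⟩
  obtain ⟨s, hs⟩ := key a i
  rw [← hs, ← hw]
  exact D_mem f w s

end

end KRLib
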