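import Groth.Agent.KRLib.Model
import Mathlib.RingTheory.Localization.Integral
import Mathlib.RingTheory.Flat.Localization
import Mathlib.RingTheory.Ideal.Operations
import Mathlib.LinearAlgebra.Matrix.NonsingularInverse
import Mathlib.LinearAlgebra.Dimension.Finrank
import Mathlib.RingTheory.MvPolynomial.Localization
import Mathlib.LinearAlgebra.Dimension.OrzechProperty

/-!
# Koszul-regular ideals: composition and descent along retractions
-/

set_option autoImplicit false
set_option linter.style.haveILetI false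

universe u

namespace KRLib

open KoszDetLib

noncomputable section

variable {Q R : Type u} [CommRing Q] [CommRing R]

/-- An ideal generated by a Koszul-exact family. -/
def KRGen (I : Ideal Q) : Prop :=
  ∃ (n : ℕ) (f : Fin n → Q), IsExactK f ∧ Ideal.span (Set.range f) = I

/-- Locally generated by Koszul-exact families. -/
def LocKR (I : Ideal Q) : Prop :=
  ∀ p : Ideal Q, p.IsPrime → I ≤ p → ∃ g, g ∉ p ∧
    KRGen (I.map (algebraMap Q (Localization.Away g)))

theorem krGen_iff (I : Ideal Q) :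
    KRGen I ↔ ∃ l : List Q, LCI.IsKoszulRegularSeq Q l ∧ I = Ideal.span {x | x ∈ l} := by
  constructor
  · rintro ⟨n, f, hf, rfl⟩
    refine ⟨List.ofFn f, isKoszulRegularSeq_of_isExactK f hf, ?_⟩
    congr 1
    ext x
    simp [List.mem_ofFn]
  · rintro ⟨l, hl, rfl⟩
    refine ⟨l.length, l.get, isExactK_of_isKoszulRegularSeq _ (by rwa [List.ofFn_get]), ?_⟩
    congr 1
    ext x
    simp [List.mem_iff_get]

theorem locKR_iff (I : Ideal Q) : LocKR I ↔ LCI.IsKoszulRegularIdeal I := by
  constructor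
  · intro h p hp
    obtain ⟨g, hg, hI⟩ := h p.asIdeal p.isPrime hp
    exact ⟨g, hg, (krGen_iff _).1 hI⟩
  · intro h p hp hpI
    obtain ⟨g, hg, hI⟩ := h ⟨p, hp⟩ hpI
    exact ⟨g, hg, (krGen_iff _).2 hI⟩

theorem KRGen.map_flat [Algebra Q R] [Module.Flat Q R] {I : Ideal Q} (h : KRGen I) :
    KRGen (I.map (algebraMap Q R)) := by
  obtain ⟨n, f, hf, rfl⟩ := h
  refine ⟨n, fun i => algebraMap Q R (f i), isExactK_of_flat hf, ?_⟩
  rw [Ideal.map_span, ← Set.range_comp]
  rfl

theorem KRGen.map_bijective (σ : Q →+* R) (hσ : Function.Bijective σ) {I : Ideal Q} (h : KRGen I) :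
    KRGen (I.map σ) := by
  obtain ⟨n, f, hf, rfl⟩ := h
  refine ⟨n, fun i => σ (f i), isExactK_of_ringEquiv (RingEquiv.ofBijective σ hσ) hf, ?_⟩
  rw [Ideal.map_span, ← Set.range_comp]
  rfl

/-- Regularity on `D(g)` persists on any flat algebra where `g` is invertible. -/
theorem KRGen.map_of_isUnit [Algebra Q R] [Module.Flat Q R] {I : Ideal Q} {g : Q}
    (hg : IsUnit (algebraMap Q R g))
    (h : KRGen (I.map (algebraMap Q (Localization.Away g)))) :
    KRGen (I.map (algebraMap Q R)) := by
  letI : Algebra (Localization.Away g) R := (IsLocalization.Away.lift g hg).toAlgebra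
  haveI : IsScalarTower Q (Localization.Away g) R :=
    IsScalarTower.of_algebraMap_eq fun x => (IsLocalization.Away.lift_eq g hg x).symm
  haveI : Module.Flat (Localization.Away g) R :=
    (Module.flat_iff_of_isLocalization (Localization.Away g) (Submonoid.powers g) R).mpr inferInstance
  have h' := h.map_flat (R := R)
  rwa [Ideal.map_map, ← IsScalarTower.algebraMap_eq] at h'

theorem LocKR.map_flat [Algebra Q R] [Module.Flat Q R] {I : Ideal Q} (h : LocKR I) :
    LocKR (I.map (algebraMap Q R)) := by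
  intro p hp hIp
  obtain ⟨g, hg, hI⟩ := h (p.comap (algebraMap Q R)) inferInstance (Ideal.map_le_iff_le_comap.1 hIp)
  refine ⟨algebraMap Q R g, hg, ?_⟩
  haveI : Module.Flat Q (Localization.Away (algebraMap Q R g)) :=
    Module.Flat.trans Q R _
  rw [Ideal.map_map, ← IsScalarTower.algebraMap_eq]
  refine KRGen.map_of_isUnit (g := g) ?_ hI
  rw [IsScalarTower.algebraMap_apply Q R (Localization.Away (algebraMap Q R g))]
  exact IsLocalization.Away.algebraMap_isUnit _

theorem LocKR.map_bijective (σ : Q →+* R) (hσ : Function.Bijective σ) {I : Ideal Q} (h : LocKR I) :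
    LocKR (I.map σ) := by
  letI := σ.toAlgebra
  haveI : Module.Flat Q R :=
    Module.Flat.of_linearEquiv (LinearEquiv.ofBijective (Algebra.linearMap Q R) hσ).symm
  exact h.map_flat

theorem LocKR.of_ringEquiv (σ : Q ≃+* R) {J : Ideal R} (h : LocKR (J.comap σ.toRingHom)) :
    LocKR J := by
  have h' := h.map_bijective σ.toRingHom σ.bijective
  rwa [Ideal.map_comap_of_surjective σ.toRingHom σ.surjective] at h'

theorem KRGen.locKR {I : Ideal Q} (h : KRGen I) : LocKR I := fun p hp _ =>
  ⟨1, fun h1 => hp.ne_top ((Ideal.eq_top_iff_one _).2 h1), h.map_flat⟩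

section AwayMap

variable (σ : Q →+* R) (h : Q) (Q' R' : Type u) [CommRing Q'] [CommRing R'] [Algebra Q Q']
  [Algebra R R'] [IsLocalization.Away h Q'] [IsLocalization.Away (σ h) R']

theorem awayMap_comp :
    (IsLocalization.Away.map Q' R' σ h).comp (algebraMap Q Q') = (algebraMap R R').comp σ :=
  IsLocalization.map_comp _

theorem awayMap_surjective (hσ : Function.Surjective σ) :
    Function.Surjective (IsLocalization.Away.map Q' R' σ h) := by
  intro z
  obtain ⟨b, ⟨_, k, rfl⟩, rfl⟩ := IsLocalization.exists_mk'_eq (Submonoid.powers (σ h)) z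
  obtain ⟨q, rfl⟩ := hσ b
  refine ⟨IsLocalization.mk' Q' q (⟨h ^ k, k, rfl⟩ : Submonoid.powers h), ?_⟩
  rw [IsLocalization.Away.map, IsLocalization.map_mk']
  congr 1
  exact Subtype.ext (map_pow σ h k)

theorem ker_awayMap :
    RingHom.ker (IsLocalization.Away.map Q' R' σ h) = (RingHom.ker σ).map (algebraMap Q Q') := by
  refine le_antisymm (fun z hz => ?_) ?_
  · obtain ⟨q, ⟨_, k, rfl⟩, rfl⟩ := IsLocalization.exists_mk'_eq (Submonoid.powers h) z
    rw [RingHom.mem_ker, IsLocalization.Away.map, IsLocalization.map_mk',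
      IsLocalization.mk'_eq_zero_iff] at hz
    obtain ⟨⟨_, l, rfl⟩, hl⟩ := hz
    rw [IsLocalization.mk'_mem_iff, IsLocalization.mem_map_algebraMap_iff (Submonoid.powers h)]
    have hm : h ^ l * q ∈ RingHom.ker σ := by
      rw [RingHom.mem_ker, map_mul, map_pow]; exact hl
    refine ⟨⟨⟨h ^ l * q, hm⟩, ⟨h ^ l, l, rfl⟩⟩, ?_⟩
    simp [mul_comm]
  · rw [Ideal.map_le_iff_le_comap]
    intro q hq
    rw [Ideal.mem_comap, RingHom.mem_ker, ← RingHom.comp_apply, awayMap_comp, RingHom.comp_apply,
      RingHom.mem_ker.1 hq, map_zero]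

end AwayMap

/-- Composition of generated ideals. -/
theorem KRGen.comap (σ : Q →+* R) (hσ : Function.Surjective σ) (hI : KRGen (RingHom.ker σ))
    {J : Ideal R} (hJ : KRGen J) : KRGen (J.comap σ) := by
  obtain ⟨n, f, hf, hfI⟩ := hI
  obtain ⟨m, g, hg, rfl⟩ := hJ
  choose g' hg' using fun i => hσ (g i)
  have hcomp : σ ∘ g' = g := funext hg'
  refine ⟨n + m, app g' f, isExactK_app σ f hf hfI hσ g' (hcomp ▸ hg), ?_⟩
  ext q
  rw [eps_mem_app_iff σ f hfI hσ, hcomp]
  rfl

/-- Composition of Koszul-regular ideals. -/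
theorem LocKR.comap (σ : Q →+* R) (hσ : Function.Surjective σ) (hI : LocKR (RingHom.ker σ))
    {J : Ideal R} (hJ : LocKR J) : LocKR (J.comap σ) := by
  intro p hp hJp
  have hker : RingHom.ker σ ≤ p := le_trans (fun q hq => by
    rw [Ideal.mem_comap, RingHom.mem_ker.1 hq]; exact J.zero_mem) hJp
  have hp' : (p.map σ).IsPrime := Ideal.map_isPrime_of_surjective hσ hker
  obtain ⟨g₁, hg₁, hI'⟩ := hI p hp hker
  obtain ⟨γ, hγ, hJ'⟩ := hJ (p.map σ) hp' (by
    rw [← Ideal.map_comap_of_surjective σ hσ J]; exact Ideal.map_mono hJp)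
  obtain ⟨g₂, rfl⟩ := hσ γ
  let h := g₁ * g₂
  let Q' := Localization.Away h
  let R' := Localization.Away (σ h)
  refine ⟨h, hp.mul_notMem hg₁ fun h2 => hγ (Ideal.mem_map_of_mem σ h2), ?_⟩
  let σ' := IsLocalization.Away.map Q' R' σ h
  have h1 : KRGen (RingHom.ker σ') := by
    rw [ker_awayMap σ h Q' R']
    refine hI'.map_of_isUnit ?_
    exact isUnit_of_mul_isUnit_left (map_mul (algebraMap Q Q') g₁ g₂ ▸
      IsLocalization.Away.algebraMap_isUnit h)
  have h2 : KRGen (J.map (algebraMap R R')) := by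
    refine hJ'.map_of_isUnit ?_
    have e : algebraMap R R' (σ h) = algebraMap R R' (σ g₁) * algebraMap R R' (σ g₂) := by
      simp [h]
    exact isUnit_of_mul_isUnit_right
      ((congrArg IsUnit e).mp (IsLocalization.Away.algebraMap_isUnit (σ h)))
  have hs := awayMap_surjective σ h Q' R' hσ
  have h3 := KRGen.comap σ' hs h1 h2
  convert h3 using 1
  have hmap : ((J.comap σ).map (algebraMap Q Q')).map σ' = J.map (algebraMap R R') := by
    rw [Ideal.map_map, awayMap_comp, ← Ideal.map_map, Ideal.map_comap_of_surjective σ hσ]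
  rw [← hmap, Ideal.comap_map_of_surjective _ hs]
  refine (sup_eq_left.2 ?_).symm
  rw [← RingHom.ker_eq_comap_bot, ker_awayMap σ h Q' R']
  exact Ideal.map_mono fun q hq => by
    rw [Ideal.mem_comap, RingHom.mem_ker.1 hq]; exact J.zero_mem

/-- Completing residually independent rows by coordinate vectors. -/
theorem exists_completion {K : Type u} [Field K] {m r : ℕ} (v : Fin m → Fin r → K)
    (hv : LinearIndependent K v) :
    ∃ (s : ℕ) (_ : m + s = r) (e : Fin s → Fin r),
      LinearIndependent K (app (fun i => (Pi.single (e i) 1 : Fin r → K)) v) := by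
  classical
  let w : Fin m ⊕ Fin r → (Fin r → K) := Sum.elim v fun i => Pi.single i 1
  have h0 : LinearIndepOn K w (Set.range Sum.inl) :=
    (linearIndepOn_range_iff Sum.inl_injective w).2 hv
  let t := h0.extend (Set.subset_univ _)
  have hsub : Set.range Sum.inl ⊆ t := h0.subset_extend _
  have hspan : Submodule.span K (w '' t) = ⊤ := by
    rw [h0.span_image_extend_eq_span_image, Set.image_univ, eq_top_iff,
      ← (Pi.basisFun K (Fin r)).span_eq]
    refine Submodule.span_mono ?_
    rintro _ ⟨i, rfl⟩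
    exact ⟨Sum.inr i, (Pi.basisFun_apply K (Fin r) i).symm⟩
  let S : Finset (Fin r) := Finset.univ.filter fun i => Sum.inr i ∈ t
  let e : Fin S.card → Fin r := fun i => (S.equivFin.symm i : Fin r)
  have ht : w '' t = Set.range (app (fun i => (Pi.single (e i) 1 : Fin r → K)) v) := by
    rw [range_app]
    ext x
    constructor
    · rintro ⟨i | i, hi, rfl⟩
      · exact Or.inr ⟨i, rfl⟩
      · refine Or.inl ⟨S.equivFin ⟨i, by simp [S, hi]⟩, ?_⟩
        simp [e, w]
    · rintro (⟨i, rfl⟩ | ⟨i, rfl⟩)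
      · exact ⟨Sum.inr (e i), (Finset.mem_filter.1 (S.equivFin.symm i).2).2, rfl⟩
      · exact ⟨Sum.inl i, hsub ⟨i, rfl⟩, rfl⟩
  have hli : LinearIndependent K (fun x : t => w x) := h0.linearIndepOn_extend _
  have hcard : Fintype.card t = m + S.card := by
    have : t.toFinset = (Finset.univ.map ⟨Sum.inl, Sum.inl_injective⟩) ∪
        (S.map ⟨Sum.inr, Sum.inr_injective⟩) := by
      ext (x | x)
      · simp [hsub ⟨x, rfl⟩]
      · simp [S]
    rw [← Set.toFinset_card, this, Finset.card_union_of_disjoint (by simp [Finset.disjoint_left]),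
      Finset.card_map, Finset.card_map, Finset.card_univ, Fintype.card_fin]
  have hr : m + S.card = r := by
    have h1 := finrank_span_eq_card hli
    rw [← Set.image_eq_range, hspan, finrank_top, Module.finrank_fintype_fun_eq_card,
      Fintype.card_fin] at h1
    omega
  refine ⟨S.card, hr, e, linearIndependent_of_top_le_span_of_card_eq_finrank ?_ ?_⟩
  · rw [← ht, hspan]
  · rw [Fintype.card_fin, Module.finrank_fintype_fun_eq_card, Fintype.card_fin, hr]

/-- Descent along a retraction whose kernel is generated by part of a minimal system. -/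
theorem LocKR.descend (σ : Q →+* R) (hσ : Function.Surjective σ) {m : ℕ} (k : Fin m → Q)
    (hk : IsExactK k) (hkσ : Ideal.span (Set.range k) = RingHom.ker σ) {J : Ideal Q}
    (hKJ : RingHom.ker σ ≤ J) (hJ : LocKR J)
    (hsplit : ∀ p : Ideal Q, p.IsPrime → J ≤ p →
      ∀ x ∈ RingHom.ker σ, x ∈ p * J → x ∈ p * RingHom.ker σ) :
    LocKR (J.map σ) := by
  classical
  intro q hq hJq
  let p := q.comap σ
  have hp : p.IsPrime := inferInstance
  have hJp : J ≤ p := Ideal.map_le_iff_le_comap.1 hJq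
  obtain ⟨g, hg, r, F, hF, hFJ⟩ := hJ p hp hJp
  let L := Localization.Away g
  let ι := algebraMap Q L
  have hdisj : Disjoint (Submonoid.powers g : Set Q) p := by
    rw [Set.disjoint_left]
    rintro _ ⟨j, rfl⟩ hj
    exact hg (hp.mem_of_pow_mem j hj)
  let p' := p.map ι
  haveI hp' : p'.IsPrime :=
    IsLocalization.isPrime_of_isPrime_disjoint (Submonoid.powers g) L p hp hdisj
  have hcomap : p'.comap ι = p :=
    IsLocalization.comap_map_of_isPrime_disjoint (Submonoid.powers g) L hp hdisj
  have hkJ : ∀ j, ι (k j) ∈ Ideal.span (Set.range F) := fun j => by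
    rw [hFJ]
    exact Ideal.mem_map_of_mem ι (hKJ (hkσ.le (Ideal.subset_span ⟨j, rfl⟩)))
  choose d hd using fun j => Ideal.mem_span_range_iff_exists_fun.1 (hkJ j)
  -- the rows of `d` are independent modulo `p'`
  have hindep : ∀ a : Fin m → L, (∀ i, ∑ j, a j * d j i ∈ p') → ∀ j, a j ∈ p' := by
    intro a ha
    obtain ⟨⟨s, hs⟩, hsa⟩ := IsLocalization.exist_integer_multiples_of_finite (Submonoid.powers g) a
    choose a' ha' using hsa
    have hx : ι (∑ j, a' j * k j) ∈ (p * J).map ι := by
      rw [Ideal.map_mul, map_sum]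
      have he : ∀ j, ι (a' j * k j) = ι s * (∑ i, (a j * d j i) * F i) := fun j => by
        rw [map_mul, ha' j, Algebra.smul_def, ← hd j, Finset.mul_sum, Finset.mul_sum]
        exact Finset.sum_congr rfl fun i _ => by ring
      rw [Finset.sum_congr rfl fun j _ => he j, ← Finset.mul_sum, Finset.sum_comm]
      refine Ideal.mul_mem_left _ _ (Submodule.sum_mem _ fun i _ => ?_)
      rw [← Finset.sum_mul]
      exact Ideal.mul_mem_mul (ha i) (hFJ.le (Ideal.subset_span ⟨i, rfl⟩))
    obtain ⟨⟨⟨y, hy⟩, ⟨_, M, rfl⟩⟩, hyM⟩ :=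
      (IsLocalization.mem_map_algebraMap_iff (Submonoid.powers g) L).1 hx
    rw [← map_mul, IsLocalization.eq_iff_exists (Submonoid.powers g) L] at hyM
    obtain ⟨⟨_, N, rfl⟩, hN⟩ := hyM
    have hz : (∑ j, (g ^ N * g ^ M * a' j) * k j) ∈ p * J := by
      have he : ∑ j, (g ^ N * g ^ M * a' j) * k j = g ^ N * y := by
        rw [← hN, Finset.sum_mul, Finset.mul_sum]
        exact Finset.sum_congr rfl fun j _ => by ring
      rw [he]
      exact Ideal.mul_mem_left _ _ hy
    have hzK : (∑ j, (g ^ N * g ^ M * a' j) * k j) ∈ RingHom.ker σ := by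
      rw [← hkσ]
      exact Submodule.sum_mem _ fun j _ => Ideal.mul_mem_left _ _ (Ideal.subset_span ⟨j, rfl⟩)
    have hpk := hsplit p hp hJp _ hzK hz
    rw [← hkσ, ← smul_eq_mul, Ideal.span, Submodule.mem_ideal_smul_span_iff_exists_sum] at hpk
    obtain ⟨b, hb, hbsum⟩ := hpk
    rw [Finsupp.sum_fintype _ _ (fun i => zero_smul Q (k i))] at hbsum
    intro j
    have hc := coeff_mem_of_relation hk (fun j => g ^ N * g ^ M * a' j - b j) (by
      simp only [sub_mul, Finset.sum_sub_distrib]
      simp only [smul_eq_mul] at hbsum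
      rw [hbsum, sub_self]) j
    have hcp : g ^ N * g ^ M * a' j - b j ∈ p := hJp (hKJ (hkσ.le hc))
    have h' : g ^ N * g ^ M * a' j ∈ p := by
      have := p.add_mem hcp (hb j)
      rwa [sub_add_cancel] at this
    have ha'p : a' j ∈ p := ((hp.mem_or_mem h').resolve_left fun h1 =>
      ((hp.mem_or_mem h1).elim (fun h2 => hg (hp.mem_of_pow_mem _ h2))
        (fun h2 => hg (hp.mem_of_pow_mem _ h2))))
    have hsj : ι s * a j ∈ p' := by
      rw [← Algebra.smul_def, ← ha' j]
      exact Ideal.mem_map_of_mem ι ha'p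
    refine (hp'.mem_or_mem hsj).resolve_left fun h1 => ?_
    exact Set.disjoint_left.1 hdisj hs (hcomap.le h1)
  -- residue field
  let K := FractionRing (L ⧸ p')
  let ρ : L →+* K := (algebraMap (L ⧸ p') K).comp (Ideal.Quotient.mk p')
  have hρ : ∀ x, ρ x = 0 ↔ x ∈ p' := fun x => by
    rw [RingHom.comp_apply, map_eq_zero_iff _ (IsFractionRing.injective (L ⧸ p') K),
      Ideal.Quotient.eq_zero_iff_mem]
  have hv : LinearIndependent K (fun j i => ρ (d j i)) := by
    rw [← LinearIndependent.iff_fractionRing (R := L ⧸ p'), Fintype.linearIndependent_iff]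
    intro a ha j
    choose a₀ ha₀ using fun j => Ideal.Quotient.mk_surjective (a j)
    rw [← ha₀ j, Ideal.Quotient.eq_zero_iff_mem]
    refine hindep a₀ (fun i => (hρ _).1 ?_) j
    rw [map_sum, ← (show (∑ j, a j • fun i => ρ (d j i)) i = 0 by rw [ha]; rfl), Finset.sum_apply]
    refine Finset.sum_congr rfl fun j _ => ?_
    simp [← ha₀ j, ρ]
    exact (Algebra.smul_def _ _).symm
  obtain ⟨s, hms, e, hind⟩ := exists_completion _ hv
  subst hms
  let C : Matrix (Fin (m + s)) (Fin (m + s)) L :=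
    Matrix.of (app (fun i => (Pi.single (e i) 1 : Fin (m + s) → L)) d)
  have hdet : ρ C.det ≠ 0 := by
    rw [RingHom.map_det, ← isUnit_iff_ne_zero, ← Matrix.isUnit_iff_isUnit_det,
      ← Matrix.linearIndependent_rows_iff_isUnit]
    have hrows : (RingHom.mapMatrix ρ C).row =
        app (fun i => (Pi.single (e i) 1 : Fin (m + s) → K)) fun j i => ρ (d j i) := by
      funext i
      show (fun row : Fin (m + s) → L => ρ ∘ row) (app _ d i) = _
      refine (app_map (fun row : Fin (m + s) → L => ρ ∘ row) _ d i).trans ?_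
      congr 1
      funext l l'
      simp only [Function.comp_apply, Pi.single_apply]
      split_ifs <;> simp
    rw [hrows]
    exact hind
  obtain ⟨⟨h₀, ⟨_, kk, rfl⟩⟩, hh₀⟩ := IsLocalization.surj (Submonoid.powers g) C.det
  have hh₀p : h₀ ∉ p := fun h1 => by
    have h2 : C.det * ι (g ^ kk) ∈ p' := hh₀ ▸ Ideal.mem_map_of_mem ι h1
    rcases hp'.mem_or_mem h2 with h3 | h3
    · exact hdet ((hρ _).2 h3)
    · exact hg (hp.mem_of_pow_mem _ (hcomap.le h3))
  refine ⟨σ (g * h₀), fun h1 => (hp.mem_or_mem (show g * h₀ ∈ p from h1)).elim hg hh₀p, ?_⟩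
  let Q' := Localization.Away (g * h₀)
  let R' := Localization.Away (σ (g * h₀))
  let σ' := IsLocalization.Away.map Q' R' σ (g * h₀)
  have hu : IsUnit (algebraMap Q Q' g) ∧ IsUnit (algebraMap Q Q' h₀) :=
    IsUnit.mul_iff.1 (map_mul (algebraMap Q Q') g h₀ ▸ IsLocalization.Away.algebraMap_isUnit (g * h₀))
  letI : Algebra L Q' := (IsLocalization.Away.lift g hu.1).toAlgebra
  haveI : IsScalarTower Q L Q' :=
    IsScalarTower.of_algebraMap_eq fun x => (IsLocalization.Away.lift_eq g hu.1 x).symm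
  haveI : Module.Flat L Q' :=
    (Module.flat_iff_of_isLocalization L (Submonoid.powers g) Q').mpr inferInstance
  let τ := algebraMap L Q'
  let C' := RingHom.mapMatrix τ C
  have hC' : IsUnit C'.det := by
    rw [← RingHom.map_det]
    have h1 : τ C.det * τ (ι (g ^ kk)) = τ (ι h₀) := by rw [← map_mul]; exact congrArg τ hh₀
    have h2 : IsUnit (τ (ι h₀)) := (IsScalarTower.algebraMap_apply Q L Q' h₀) ▸ hu.2
    exact isUnit_of_mul_isUnit_left (h1 ▸ h2)
  let F' : Fin (m + s) → Q' := fun i => τ (F i)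
  let k' : Fin m → Q' := fun j => algebraMap Q Q' (k j)
  let G : Fin (m + s) → Q' := app (F' ∘ e) k'
  have hG : ∀ i, G i = ∑ l, C' i l * F' l := fun i => by
    have h1 := app_map (fun row : Fin (m + s) → L => ∑ l, τ (row l) * F' l)
      (fun i => (Pi.single (e i) 1 : Fin (m + s) → L)) d i
    refine Eq.trans ?_ h1.symm
    show app (F' ∘ e) k' i = _
    congr 1
    · funext l
      simp [Pi.single_apply, F', apply_ite τ, ite_mul]
    · funext j
      show algebraMap Q Q' (k j) = ∑ l, τ (d j l) * τ (F l)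
      rw [IsScalarTower.algebraMap_apply Q L Q', ← hd j, map_sum]
      simp only [smul_eq_mul, map_mul]
      rfl
  have hFG : ∀ i, F' i = ∑ l, C'⁻¹ i l * G l := fun i => by
    have h1 : C'.mulVec F' = G := funext fun l => (hG l).symm
    have h2 : C'⁻¹.mulVec G = F' := by
      rw [← h1, Matrix.mulVec_mulVec, Matrix.nonsing_inv_mul _ hC', Matrix.one_mulVec]
    exact (congrFun h2 i).symm
  have hF' : IsExactK F' := isExactK_of_flat hF
  have hGexact : IsExactK G :=
    isExactK_of_matrix hF' C'⁻¹ C' hFG hG (Matrix.mul_nonsing_inv _ hC')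
  have hk' : IsExactK k' := isExactK_of_flat hk
  have hk'σ : Ideal.span (Set.range k') = RingHom.ker σ' := by
    rw [ker_awayMap σ (g * h₀) Q' R', ← hkσ, Ideal.map_span, ← Set.range_comp]
    rfl
  have hs' := awayMap_surjective σ (g * h₀) Q' R' hσ
  refine ⟨s, σ' ∘ F' ∘ e, isExactK_of_app σ' k' hk' hk'σ hs' _ hGexact, ?_⟩
  have hspan : Ideal.span (Set.range G) = J.map (algebraMap Q Q') := by
    rw [IsScalarTower.algebraMap_eq Q L Q', ← Ideal.map_map, ← hFJ, Ideal.map_span, ← Set.range_comp]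
    exact le_antisymm (span_le_of_matrix _ hG) (span_le_of_matrix _ hFG)
  rw [Ideal.map_map, ← awayMap_comp σ (g * h₀) Q' R', ← Ideal.map_map, ← hspan, range_app,
    Ideal.span_union, Ideal.map_sup, hk'σ]
  have : Ideal.map σ' (RingHom.ker σ') = ⊥ := (Ideal.map_eq_bot_iff_le_ker σ').2 le_rfl
  rw [this, sup_bot_eq, Ideal.map_span, ← Set.range_comp]

end

end KRLib
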