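import Groth.Agent.KRLib.Ideal
import Groth.Prelude.Def_RegImm
import Mathlib.AlgebraicGeometry.Morphisms.ClosedImmersion
import Mathlib.AlgebraicGeometry.Morphisms.Immersion

/-!
# Koszul-regular immersions on affine charts
-/

set_option autoImplicit false
set_option linter.style.haveILetI false

universe u

open CategoryTheory AlgebraicGeometry

namespace KRLib

noncomputable section

variable {X Z : Scheme.{u}} (i : Z ⟶ X)

/-- On the affine open `U` the immersion `i` is closed and cut out by a Koszul-exact family. -/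
structure GoodChart (U : X.Opens) : Prop where
  isAffine : IsAffineOpen U
  isAffine_pre : IsAffineOpen (i ⁻¹ᵁ U)
  surjective : Function.Surjective (i.app U)
  krGen : KRGen (RingHom.ker (i.app U).hom)

theorem surjective_appLE_congr {U U' : X.Opens} {V V' : Z.Opens} (e : V ≤ i ⁻¹ᵁ U)
    (e' : V' ≤ i ⁻¹ᵁ U') (hU : U = U') (hV : V = V') :
    Function.Surjective (i.appLE U V e) ↔ Function.Surjective (i.appLE U' V' e') := by
  subst hU hV; rfl

theorem isClosedImmersion_restrict_iff {U : X.Opens} (hU : IsAffineOpen U) :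
    IsClosedImmersion (i ∣_ U) ↔ IsAffineOpen (i ⁻¹ᵁ U) ∧ Function.Surjective (i.app U) := by
  have : IsAffine _ := hU
  refine (@HasAffineProperty.iff_of_isAffine @IsClosedImmersion _ IsClosedImmersion.hasAffineProperty _ _ _ _).trans ?_
  refine and_congr Iff.rfl ?_
  rw [Scheme.Hom.appTop, morphismRestrict_app', Scheme.Hom.app_eq_appLE]
  exact surjective_appLE_congr i _ _ (by simp) (by simp)

theorem isRegularImmersionAt_koszul_iff (z : Z) :
    RegImm.IsRegularImmersionAt .koszul i z ↔ ∃ U : X.Opens, i z ∈ U ∧ GoodChart i U := by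
  constructor
  · rintro ⟨U, hz, hcl, rs, hrs, hker⟩
    obtain ⟨h1, h2⟩ := (isClosedImmersion_restrict_iff i U.2).1 hcl
    exact ⟨U.1, hz, U.2, h1, h2, (krGen_iff _).2 ⟨rs, hrs, hker⟩⟩
  · rintro ⟨U, hz, hU⟩
    obtain ⟨rs, hrs, hker⟩ := (krGen_iff _).1 hU.krGen
    exact ⟨⟨U, hU.isAffine⟩, hz,
      (isClosedImmersion_restrict_iff i hU.isAffine).2 ⟨hU.isAffine_pre, hU.surjective⟩, rs, hrs,
      hker⟩

/-- Data of `i` over a basic open, as a localised ring map. -/
theorem basicOpen_data {U : X.Opens} (hU : IsAffineOpen U) (hU' : IsAffineOpen (i ⁻¹ᵁ U))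
    (hs : Function.Surjective (i.app U)) (g : Γ(X, U)) :
    IsAffineOpen (i ⁻¹ᵁ X.basicOpen g) ∧ Function.Surjective (i.app (X.basicOpen g)) ∧
      RingHom.ker (i.app (X.basicOpen g)).hom =
        (RingHom.ker (i.app U).hom).map (X.presheaf.map (homOfLE (X.basicOpen_le g)).op).hom := by
  let D := X.basicOpen g
  have hD : i ⁻¹ᵁ D = Z.basicOpen (i.app U g) := Scheme.preimage_basicOpen i g
  have hle : i ⁻¹ᵁ D ≤ i ⁻¹ᵁ U := i.preimage_mono (X.basicOpen_le g)
  letI : Algebra Γ(X, U) Γ(X, D) := (X.presheaf.map (homOfLE (X.basicOpen_le g)).op).hom.toAlgebra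
  letI : Algebra Γ(Z, i ⁻¹ᵁ U) Γ(Z, i ⁻¹ᵁ D) := (Z.presheaf.map (homOfLE hle).op).hom.toAlgebra
  haveI : IsLocalization.Away g Γ(X, D) := hU.isLocalization_of_eq_basicOpen g _ rfl
  haveI : IsLocalization.Away ((i.app U).hom g) Γ(Z, i ⁻¹ᵁ D) :=
    hU'.isLocalization_of_eq_basicOpen (i.app U g) (homOfLE hle) hD
  have e : (i.app D).hom = IsLocalization.Away.map Γ(X, D) Γ(Z, i ⁻¹ᵁ D) (i.app U).hom g := by
    refine IsLocalization.ringHom_ext (Submonoid.powers g) ?_
    rw [awayMap_comp]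
    exact congrArg CommRingCat.Hom.hom (i.naturality (homOfLE (X.basicOpen_le g)).op)
  refine ⟨hD ▸ hU'.basicOpen _, ?_, ?_⟩
  · show Function.Surjective ⇑(i.app D).hom
    rw [e]
    exact awayMap_surjective _ g _ _ hs
  · show RingHom.ker (i.app D).hom = _
    rw [e, ker_awayMap]
    rfl

variable {i}

theorem GoodChart.basicOpen {U : X.Opens} (h : GoodChart i U) (g : Γ(X, U)) :
    GoodChart i (X.basicOpen g) := by
  obtain ⟨h1, h2, h3⟩ := basicOpen_data i h.isAffine h.isAffine_pre h.surjective g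
  refine ⟨h.isAffine.basicOpen g, h1, h2, ?_⟩
  letI : Algebra Γ(X, U) Γ(X, X.basicOpen g) :=
    (X.presheaf.map (homOfLE (X.basicOpen_le g)).op).hom.toAlgebra
  haveI : IsLocalization.Away g Γ(X, X.basicOpen g) := h.isAffine.isLocalization_basicOpen g
  haveI : Module.Flat Γ(X, U) Γ(X, X.basicOpen g) := IsLocalization.flat _ (Submonoid.powers g)
  rw [h3]
  exact h.krGen.map_flat

theorem GoodChart.locKR {U : X.Opens} (h : GoodChart i U) : LocKR (RingHom.ker (i.app U).hom) :=
  h.krGen.locKR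

/-- Composition of charts. -/
theorem exists_goodChart_comp {Y : Scheme.{u}} {j : Z ⟶ Y} {i : Y ⟶ X} {U : X.Opens}
    (hi : GoodChart i U) {V : Y.Opens} (hj : GoodChart j V) (z : Z) (hz : i (j z) ∈ U)
    (hzV : j z ∈ V) : ∃ W : X.Opens, (j ≫ i) z ∈ W ∧ GoodChart (j ≫ i) W := by
  obtain ⟨γ, δ, e, hmem⟩ := exists_basicOpen_le_affine_inter hi.isAffine_pre hj.isAffine (j z) ⟨hz, hzV⟩
  obtain ⟨g, rfl⟩ := hi.surjective γ
  have hiW := hi.basicOpen g
  have hjW := hj.basicOpen δ
  have hpre : i ⁻¹ᵁ X.basicOpen g = Y.basicOpen δ := (Scheme.preimage_basicOpen i g).trans e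
  rw [← hpre] at hjW
  refine ⟨X.basicOpen g, ?_, hiW.isAffine, ?_, ?_, ?_⟩
  · show j z ∈ i ⁻¹ᵁ X.basicOpen g
    rw [Scheme.preimage_basicOpen i g]
    exact hmem
  · exact hjW.isAffine_pre
  · rw [Scheme.Hom.comp_app]
    exact hjW.surjective.comp hiW.surjective
  · change KRGen (RingHom.ker ((j.app (i ⁻¹ᵁ X.basicOpen g)).hom.comp (i.app (X.basicOpen g)).hom))
    rw [← RingHom.comap_ker]
    exact KRGen.comap _ hiW.surjective hiW.krGen hjW.krGen

end

end KRLib
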