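import Groth.Agent.KRLib.Model
import Mathlib.RingTheory.Regular.RegularSequence
import Mathlib.LinearAlgebra.InvariantBasisNumber
import Mathlib.LinearAlgebra.Matrix.NonsingularInverse

/-!
# Koszul-exact sequences: permutation, weakly regular sequences, minimal generating systems
-/

set_option autoImplicit false
set_option linter.style.haveILetI false

universe u

open KoszDetLib RingTheory.Sequence

namespace KRLib

noncomputable section

variable {Q : Type u} [CommRing Q]

theorem D_smul : ∀ {n : ℕ} (c : Q) (f : Fin n → Q) (x : Kz Q n), D (c • f) x = c • D f x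
  | 0, _, _, _ => (smul_zero _).symm
  | _ + 1, c, f, x => by
    have h : Fin.tail (c • f) = c • Fin.tail f := rfl
    refine join_ext ?_ ?_
    · rw [map_smul, pa_D, pa_D, h, D_smul, Pi.smul_apply, smul_eq_mul, smul_add, smul_smul]
    · rw [map_smul, pb_D, pb_D, h, D_smul, smul_neg]

theorem phi_scalar : ∀ {n : ℕ} (δ : Q) (x : Kz Q n) (s : Idx n),
    phi (fun i => (Pi.single i δ : Fin n → Q)) x s = δ ^ deg s * x s
  | 0, δ, x, s => by
    show x (bot 0) * one 0 s = _
    simp [one, deg, eq_bot_of_deg s rfl]
  | n + 1, δ, x, s => by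
    have h : Fin.tail (fun i => (Pi.single i δ : Fin (n + 1) → Q)) =
        fun i => Fin.cons 0 (Pi.single i δ : Fin n → Q) := by
      funext i j
      induction j using Fin.cases with
      | zero => simp [Fin.tail]
      | succ j => simp [Fin.tail, Pi.single_apply]
    have h0 : Fin.tail (Pi.single 0 δ : Fin (n + 1) → Q) = 0 := by
      funext j; simp [Fin.tail]
    show (phi (Fin.tail (fun i => (Pi.single i δ : Fin (n + 1) → Q))) (pa x) +
      L (Pi.single 0 δ : Fin (n + 1) → Q) (phi (Fin.tail (fun i => (Pi.single i δ : Fin (n + 1) → Q))) (pb x))) s = _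
    rw [h, phi_shift, phi_shift]
    cases s with
    | inl t =>
      show phi _ (pa x) t + L (Fin.tail (Pi.single 0 δ : Fin (n + 1) → Q)) _ t = δ ^ deg t * pa x t
      rw [h0, L_zero, phi_scalar]
      simp
    | inr t =>
      show (0 : Kz Q n) t + ((Pi.single 0 δ : Fin (n + 1) → Q) 0 * phi _ (pb x) t -
        L (Fin.tail (Pi.single 0 δ : Fin (n + 1) → Q)) _ t) = δ ^ (deg t + 1) * pb x t
      rw [h0, L_zero, phi_scalar, Pi.single_eq_same]
      simp [pow_succ']
      ring

/-- Exactness only depends on the family up to reindexing. -/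
theorem isExactK_comp_equiv {m n : ℕ} {f : Fin m → Q} (hf : IsExactK f) (e : Fin n ≃ Fin m) :
    IsExactK (f ∘ e) := by
  classical
  refine isExactK_of_matrix hf (fun i j => if e j = i then 1 else 0)
    (fun i j => if e i = j then 1 else 0) (fun i => ?_) (fun i => ?_) ?_
  · rw [Finset.sum_eq_single (e.symm i) (fun j _ hj => ?_) (by simp)]
    · simp
    · simp [show e j ≠ i from fun h => hj (by rw [← h, Equiv.symm_apply_apply])]
  · rw [Finset.sum_eq_single (e i) (fun j _ hj => by simp [hj.symm]) (by simp)]
    simp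
  · ext a b
    rw [Matrix.mul_apply, Finset.sum_eq_single (e a) (fun j _ hj => ?_) (by simp)]
    · simp [Matrix.one_apply, eq_comm]
    · have hj' : ¬ e a = j := fun h => hj h.symm
      simp [hj']

theorem isExactK_cast {m n : ℕ} {f : Fin m → Q} {g : Fin n → Q} (hf : IsExactK f) (h : m = n)
    (hg : ∀ i, g (Fin.cast h i) = f i) : IsExactK g := by
  subst h
  exact (funext hg : g = f) ▸ hf

theorem isExactK_of_isWeaklyRegular_rev : ∀ l : List Q, IsWeaklyRegular Q l.reverse →
    IsExactK l.get
  | [], _ => isExactK_empty _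
  | a :: l, h => by
    rw [List.reverse_cons, isWeaklyRegular_append_iff] at h
    obtain ⟨h1, h2⟩ := h
    have hI : (Ideal.ofList l.reverse • ⊤ : Submodule Q Q) = Ideal.ofList l := by
      rw [smul_eq_mul, Ideal.mul_top, Ideal.ofList, Ideal.ofList]
      simp
    have h3 : IsSMulRegular (Q ⧸ (Ideal.ofList l.reverse • ⊤ : Submodule Q Q)) a := by
      rw [isWeaklyRegular_cons_iff] at h2; exact h2.1
    have hspan : Ideal.span (Set.range l.get) = Ideal.ofList l := by
      rw [Ideal.ofList, Set.range_list_get]
    let σ := Ideal.Quotient.mk (Ideal.ofList l)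
    refine isExactK_cast (isExactK_app σ l.get (isExactK_of_isWeaklyRegular_rev l h1)
      (by rw [hspan, Ideal.mk_ker]) Ideal.Quotient.mk_surjective (fun _ : Fin 1 => a)
      (isExactK_single (σ a) ?_)) rfl ?_
    · intro x hx
      obtain ⟨x, rfl⟩ := Ideal.Quotient.mk_surjective x
      rw [← map_mul, Ideal.Quotient.eq_zero_iff_mem] at hx
      rw [Ideal.Quotient.eq_zero_iff_mem]
      have h4 : a • (Submodule.Quotient.mk x : Q ⧸ (Ideal.ofList l.reverse • ⊤ : Submodule Q Q)) = 0 := by
        rw [← Submodule.Quotient.mk_smul, Submodule.Quotient.mk_eq_zero, hI]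
        exact hx
      have h5 := h3 (h4.trans (smul_zero a).symm)
      rwa [Submodule.Quotient.mk_eq_zero, hI] at h5
    · intro i
      induction i using Fin.cases with
      | zero => rfl
      | succ j => rfl

theorem isExactK_of_isWeaklyRegular (l : List Q) (h : IsWeaklyRegular Q l) :
    IsExactK l.get := by
  have h' := isExactK_of_isWeaklyRegular_rev l.reverse (by rwa [List.reverse_reverse])
  let e : Fin l.length ≃ Fin l.reverse.length :=
    (Fin.revPerm).trans (finCongr List.length_reverse.symm)
  have : l.get = l.reverse.get ∘ e := by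
    funext i
    simp [e, List.getElem_reverse, Fin.revPerm, Fin.rev]
    congr 1
    omega
  rw [this]
  exact isExactK_comp_equiv h' e

/-- Two generating families of an ideal, one Koszul exact: the transition matrices compose to
the identity modulo the ideal. -/
theorem exists_matrices_mod {m n : ℕ} {f : Fin m → Q} {g : Fin n → Q} (hf : IsExactK f)
    (hfg : Ideal.span (Set.range f) = Ideal.span (Set.range g)) :
    ∃ (c : Matrix (Fin m) (Fin n) Q) (d : Matrix (Fin n) (Fin m) Q),
      (∀ i, f i = ∑ j, c i j * g j) ∧ (∀ i, g i = ∑ j, d i j * f j) ∧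
      (c * d).map (Ideal.Quotient.mk (Ideal.span (Set.range f))) = 1 := by
  classical
  choose c hc using fun i => Ideal.mem_span_range_iff_exists_fun.1
    (hfg.le (Ideal.subset_span ⟨i, rfl⟩) : f i ∈ _)
  choose d hd using fun i => Ideal.mem_span_range_iff_exists_fun.1
    (hfg.ge (Ideal.subset_span ⟨i, rfl⟩) : g i ∈ _)
  refine ⟨c, d, fun i => (hc i).symm, fun i => (hd i).symm, ?_⟩
  ext i k
  have hrel : ∑ k, ((Matrix.of c * Matrix.of d : Matrix (Fin m) (Fin m) Q) i k -
      (1 : Matrix (Fin m) (Fin m) Q) i k) * f k = 0 := by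
    simp only [sub_mul, Finset.sum_sub_distrib, Matrix.mul_apply, Finset.sum_mul, Matrix.of_apply]
    rw [Finset.sum_comm, sub_eq_zero]
    conv_lhs => enter [2, j]; rw [show ∑ k, c i j * d j k * f k = c i j * g j by
      rw [← hd j, Finset.mul_sum]; simp [mul_assoc]]
    rw [hc i]
    simp [Matrix.one_apply]
  have h := coeff_mem_of_relation hf _ hrel k
  rw [← Ideal.Quotient.eq_zero_iff_mem, map_sub, sub_eq_zero] at h
  refine h.trans ?_
  by_cases hik : i = k
  · subst hik; simp [Matrix.one_apply]
  · simp [Matrix.one_apply, hik]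

theorem length_le_of_isExactK {m n : ℕ} {f : Fin m → Q} {g : Fin n → Q} (hf : IsExactK f)
    (hfg : Ideal.span (Set.range f) = Ideal.span (Set.range g))
    (hne : Ideal.span (Set.range f) ≠ ⊤) : m ≤ n := by
  classical
  obtain ⟨c, d, -, -, h⟩ := exists_matrices_mod hf hfg
  let S := Q ⧸ Ideal.span (Set.range f)
  haveI : Nontrivial S := Ideal.Quotient.nontrivial_iff.2 hne
  let σ := Ideal.Quotient.mk (Ideal.span (Set.range f))
  rw [Matrix.map_mul] at h
  refine le_of_fin_injective S (Matrix.mulVecLin (d.map σ)) fun x y hxy => ?_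
  have h2 := congrArg (Matrix.mulVecLin (c.map σ)) hxy
  simp only [Matrix.mulVecLin_apply, Matrix.mulVec_mulVec] at h2
  rwa [h, Matrix.one_mulVec, Matrix.one_mulVec] at h2

/-- A generating family of the same length as a Koszul exact one is Koszul exact. -/
theorem isExactK_of_length_eq {n : ℕ} {f g : Fin n → Q} (hg : IsExactK g)
    (hfg : Ideal.span (Set.range g) = Ideal.span (Set.range f)) : IsExactK f := by
  classical
  obtain ⟨d, c, hd, hc, h⟩ := exists_matrices_mod hg hfg
  let σ := Ideal.Quotient.mk (Ideal.span (Set.range g))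
  let A : Matrix (Fin n) (Fin n) Q := c * d
  let δ := A.det
  have hδ : σ δ = 1 := by
    show σ (c * d).det = 1
    rw [Matrix.det_mul, mul_comm, ← Matrix.det_mul, RingHom.map_det, RingHom.mapMatrix_apply, h,
      Matrix.det_one]
  have hAf : ∀ i, f i = ∑ j, A i j * f j := fun i => by
    simp only [A, Matrix.mul_apply, Finset.sum_mul]
    rw [Finset.sum_comm, hc i]
    refine Finset.sum_congr rfl fun j _ => ?_
    rw [hd j, Finset.mul_sum]
    simp [mul_assoc]
  have hadj : ∀ i, (δ • f) i = ∑ j, A.adjugate i j * f j := fun i => by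
    have h1 : A.adjugate * A = δ • (1 : Matrix (Fin n) (Fin n) Q) := Matrix.adjugate_mul A
    have h2 : ∑ j, A.adjugate i j * f j = ∑ j, A.adjugate i j * ∑ k, A j k * f k :=
      Finset.sum_congr rfl fun j _ => by rw [← hAf j]
    rw [h2]
    simp only [Finset.mul_sum, ← mul_assoc]
    rw [Finset.sum_comm]
    simp only [← Finset.sum_mul, ← Matrix.mul_apply, h1]
    simp [Matrix.smul_apply, Matrix.one_apply]
  intro x hx he
  rw [← sum_proj x]
  refine Submodule.sum_mem _ fun p _ => ?_
  cases p with
  | zero => rw [proj_zero_eq]; exact mem_range_proj_zero f _ he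
  | succ p =>
    set y := proj (p + 1) x
    have hy : D f y = 0 := by rw [D_proj_succ, hx, map_zero]
    have hey : eps (phi (fun i j => c i j) y) ∈ Ideal.span (Set.range g) := by
      rw [eps_phi]
      have : eps y = 0 := by simp [y, eps, proj_apply, deg_bot]
      rw [this]
      exact Ideal.zero_mem _
    obtain ⟨w, hw⟩ := hg _ (by rw [D_phi _ f g hc, hy, map_zero]) hey
    have h1 : D f (phi (fun i j => d i j) w) = phi (fun i j => A i j) y := by
      rw [D_phi _ g f hd, hw, phi_phi]
      rfl
    have h2 : phi (fun i j => A.adjugate i j) (phi (fun i j => A i j) y) =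
        δ ^ (p + 1) • y := by
      rw [phi_phi]
      have : (fun a j => ∑ i, A a i * A.adjugate i j) = fun i => (Pi.single i δ : Fin n → Q) := by
        funext a j
        rw [← Matrix.mul_apply, Matrix.mul_adjugate]
        simp [Matrix.smul_apply, Matrix.one_apply, Pi.single_apply, δ, eq_comm]
      rw [this]
      funext s
      rw [phi_scalar, Pi.smul_apply, smul_eq_mul]
      by_cases hs : deg s = p + 1
      · rw [hs]
      · simp [y, proj_apply, hs]
    have h3 : (δ ^ (p + 1 + 1)) • y ∈ LinearMap.range (D f) := by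
      refine ⟨phi (fun i j => A.adjugate i j) (phi (fun i j => d i j) w), ?_⟩
      rw [D_phi _ (δ • f) f hadj, D_smul, map_smul, h1, h2, smul_smul, ← pow_succ']
    have hmem : 1 - δ ^ (p + 1 + 1) ∈ Ideal.span (Set.range f) := by
      rw [← hfg, ← Ideal.Quotient.eq_zero_iff_mem]
      simp [σ] at hδ
      simp [hδ]
    obtain ⟨a, ha⟩ := Ideal.mem_span_range_iff_exists_fun.1 hmem
    have h4 : (1 - δ ^ (p + 1 + 1)) • y ∈ LinearMap.range (D f) := by
      refine ⟨L a y, ?_⟩
      have := D_L f a y
      rwa [hy, map_zero, add_zero, ha] at this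
    have := Submodule.add_mem _ h4 h3
    rwa [← add_smul, sub_add_cancel, one_smul] at this

end

end KRLib
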