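import Groth.Agent.KRLib.Ideal
import Mathlib.Algebra.MvPolynomial.Equiv
import Mathlib.RingTheory.Polynomial.Ideal
import Mathlib.RingTheory.Finiteness.FiniteTypeLocal

/-!
# Independence of presentations; locality; composition of lci ring maps
-/

set_option autoImplicit false
set_option linter.style.haveILetI false

universe u

open MvPolynomial

namespace KRLib

open KoszDetLib

noncomputable section

theorem krGen_ker_aeval {R : Type u} [CommRing R] : ∀ {m : ℕ} (a : Fin m → R),
    KRGen (RingHom.ker (aeval a : MvPolynomial (Fin m) R →ₐ[R] R).toRingHom)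
  | 0, a => by
    refine ⟨0, Fin.elim0, isExactK_empty _, ?_⟩
    rw [Set.range_eq_empty, Ideal.span_empty]
    symm
    rw [eq_bot_iff]
    intro x hx
    rw [MvPolynomial.eq_C_of_isEmpty x] at hx ⊢
    rw [RingHom.mem_ker] at hx
    change aeval a (C (coeff 0 x) : MvPolynomial (Fin 0) R) = 0 at hx
    rw [aeval_C] at hx
    simp only [Algebra.algebraMap_self, RingHom.id_apply] at hx
    simp [hx]
  | m + 1, a => by
    let σ : Polynomial (MvPolynomial (Fin m) R) →+* MvPolynomial (Fin m) R :=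
      Polynomial.evalRingHom (C (a 0))
    have hσ : Function.Surjective σ := fun x => ⟨Polynomial.C x, Polynomial.eval_C⟩
    have h1 : KRGen (RingHom.ker σ) := by
      refine ⟨1, fun _ => Polynomial.X - Polynomial.C (C (a 0)),
        isExactK_single _ fun x hx => ?_, ?_⟩
      · exact (Polynomial.monic_X_sub_C _).mul_right_eq_zero_iff.1 hx
      · rw [Set.range_const, Polynomial.ker_evalRingHom]
    have h2 := KRGen.comap σ hσ h1 (krGen_ker_aeval (Fin.tail a))
    let E := (finSuccEquiv R m).toRingEquiv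
    have h3 := h2.map_bijective E.symm.toRingHom E.symm.bijective
    convert h3 using 1
    have hφ : (aeval a : MvPolynomial (Fin (m + 1)) R →ₐ[R] R).toRingHom =
        ((aeval (Fin.tail a) : MvPolynomial (Fin m) R →ₐ[R] R).toRingHom.comp σ).comp E.toRingHom := by
      refine MvPolynomial.ringHom_ext (fun r => ?_) (fun i => ?_)
      · simp [σ, E, finSuccEquiv_apply]
      · induction i using Fin.cases with
        | zero => simp [σ, E, finSuccEquiv_X_zero]
        | succ j => simp [σ, E, finSuccEquiv_X_succ, Fin.tail]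
    rw [hφ, ← RingHom.comap_ker, ← RingHom.comap_ker]
    exact (Ideal.map_symm E).symm

section Two

variable {P D : Type u} [CommRing P] [CommRing D]

/-- Enlarging a presentation preserves Koszul-regularity of the kernel. -/
theorem locKR_ker_eval₂Hom (α : P →+* D) (hα : Function.Surjective α) (h : LocKR (RingHom.ker α))
    {m : ℕ} (b : Fin m → D) : LocKR (RingHom.ker (eval₂Hom α b : MvPolynomial (Fin m) P →+* D)) := by
  have h1 : LocKR (RingHom.ker (MvPolynomial.map α : MvPolynomial (Fin m) P →+* _)) := by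
    rw [MvPolynomial.ker_map, ← MvPolynomial.algebraMap_eq]
    exact h.map_flat
  have h2 := LocKR.comap (MvPolynomial.map α)
    (MvPolynomial.map_surjective α hα) h1 (krGen_ker_aeval b).locKR
  convert h2 using 1
  rw [RingHom.comap_ker]
  congr 1
  refine MvPolynomial.ringHom_ext (fun r => ?_) (fun i => ?_) <;> simp

/-- A Koszul-regular enlarged presentation descends. -/
theorem locKR_ker_of_eval₂Hom (α : P →+* D) (hα : Function.Surjective α) {m : ℕ} (b : Fin m → D)
    (h : LocKR (RingHom.ker (eval₂Hom α b : MvPolynomial (Fin m) P →+* D))) :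
    LocKR (RingHom.ker α) := by
  choose q hq using fun j => hα (b j)
  let σ : MvPolynomial (Fin m) P →+* P := (aeval q : MvPolynomial (Fin m) P →ₐ[P] P).toRingHom
  have hσ : Function.Surjective σ := fun x => ⟨C x, by simp [σ]⟩
  let γ : MvPolynomial (Fin m) P →+* D := eval₂Hom α b
  have hγ : γ = α.comp σ :=
    MvPolynomial.ringHom_ext (fun r => by simp [γ, σ]) (fun i => by simp [γ, σ, hq])
  obtain ⟨n, k, hk, hkσ⟩ := krGen_ker_aeval q
  have hker : RingHom.ker γ = (RingHom.ker α).comap σ := by rw [hγ, RingHom.comap_ker]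
  have hKJ : RingHom.ker σ ≤ RingHom.ker γ := fun x hx => by
    rw [RingHom.mem_ker, hγ, RingHom.comp_apply, RingHom.mem_ker.1 hx, map_zero]
  have hmain : ∀ p : Ideal (MvPolynomial (Fin m) P), p.IsPrime → RingHom.ker γ ≤ p →
      ∀ x ∈ RingHom.ker σ, x ∈ p * RingHom.ker γ → x ∈ p * RingHom.ker σ := by
    intro p _ hJp x hx hxp
    have hT : ∀ y, y - C (σ y) ∈ RingHom.ker σ := fun y => by
      rw [RingHom.mem_ker, map_sub, sub_eq_zero]
      simp [σ]
    suffices ∀ z ∈ p * RingHom.ker γ, z - C (σ z) ∈ p * RingHom.ker σ by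
      have h2 := this x hxp
      rwa [RingHom.mem_ker.1 hx, map_zero, sub_zero] at h2
    intro z hz
    induction hz using Submodule.mul_induction_on' with
    | mem_mul_mem u hu v hv =>
      have hCv : C (σ v) ∈ RingHom.ker γ := by
        have h0 : α (σ v) = 0 := by rw [← RingHom.comp_apply, ← hγ]; exact hv
        simp [γ, h0]
      have e : u * v - C (σ (u * v)) = C (σ v) * (u - C (σ u)) + u * (v - C (σ v)) := by
        rw [map_mul, map_mul]; ring
      rw [e]
      exact add_mem (Ideal.mul_mem_mul (hJp hCv) (hT u)) (Ideal.mul_mem_mul hu (hT v))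
    | add a _ b _ ha hb =>
      have e : a + b - C (σ (a + b)) = (a - C (σ a)) + (b - C (σ b)) := by
        rw [map_add, map_add]; ring
      rw [e]
      exact add_mem ha hb
  have h3 := LocKR.descend σ hσ k hk hkσ hKJ h hmain
  rwa [hker, Ideal.map_comap_of_surjective σ hσ] at h3

end Two

/-- Locality of Koszul-regularity. -/
theorem locKR_of_cover {Q : Type u} [CommRing Q] {I : Ideal Q}
    (h : ∀ p : Ideal Q, p.IsPrime → I ≤ p → ∃ u, u ∉ p ∧
      LocKR (I.map (algebraMap Q (Localization.Away u)))) : LocKR I := by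
  intro p hp hIp
  obtain ⟨u, hu, hloc⟩ := h p hp hIp
  let P₁ := Localization.Away u
  let ι := algebraMap Q P₁
  have hdisj : Disjoint (Submonoid.powers u : Set Q) p := by
    rw [Set.disjoint_left]
    rintro _ ⟨j, rfl⟩ hj
    exact hu (hp.mem_of_pow_mem j hj)
  obtain ⟨g, hg, hgen⟩ := hloc (p.map ι)
    (IsLocalization.isPrime_of_isPrime_disjoint (Submonoid.powers u) P₁ p hp hdisj)
    (Ideal.map_mono hIp)
  obtain ⟨⟨g₀, ⟨_, k, rfl⟩⟩, hg₀⟩ := IsLocalization.surj (Submonoid.powers u) g
  have hg₀p : g₀ ∉ p := fun h1 => hg (by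
    have h2 : g * ι (u ^ k) ∈ p.map ι := hg₀ ▸ Ideal.mem_map_of_mem ι h1
    exact (Ideal.mul_unit_mem_iff_mem _ ((IsLocalization.map_units P₁
      (⟨u ^ k, k, rfl⟩ : Submonoid.powers u)))).1 h2)
  refine ⟨u * g₀, fun h1 => (hp.mem_or_mem h1).elim hu hg₀p, ?_⟩
  let L := Localization.Away (u * g₀)
  have hun : IsUnit (algebraMap Q L u) ∧ IsUnit (algebraMap Q L g₀) :=
    IsUnit.mul_iff.1 (map_mul (algebraMap Q L) u g₀ ▸ IsLocalization.Away.algebraMap_isUnit (u * g₀))
  letI : Algebra P₁ L := (IsLocalization.Away.lift u hun.1).toAlgebra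
  haveI : IsScalarTower Q P₁ L :=
    IsScalarTower.of_algebraMap_eq fun x => (IsLocalization.Away.lift_eq u hun.1 x).symm
  haveI : Module.Flat P₁ L :=
    (Module.flat_iff_of_isLocalization P₁ (Submonoid.powers u) L).mpr inferInstance
  have h2 := KRGen.map_of_isUnit (R := L) (g := g) (by
    have h3 : algebraMap P₁ L g * algebraMap P₁ L (ι (u ^ k)) = algebraMap P₁ L (ι g₀) := by
      rw [← map_mul]; exact congrArg _ hg₀
    have h4 : IsUnit (algebraMap P₁ L (ι g₀)) := (IsScalarTower.algebraMap_apply Q P₁ L g₀) ▸ hun.2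
    exact isUnit_of_mul_isUnit_left (h3 ▸ h4)) hgen
  rwa [Ideal.map_map, ← IsScalarTower.algebraMap_eq] at h2

section Pres

variable {A D : Type u} [CommRing A] [CommRing D] [Algebra A D]

/-- Swapping two sets of variables. -/
theorem eval₂Hom_comp_commAlgEquiv {n m : ℕ} (a : Fin n → D) (b : Fin m → D) :
    (eval₂Hom (aeval a : MvPolynomial (Fin n) A →ₐ[A] D).toRingHom b :
        MvPolynomial (Fin m) (MvPolynomial (Fin n) A) →+* D).comp
      (commAlgEquiv A (Fin n) (Fin m)).toRingEquiv.toRingHom =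
      eval₂Hom (aeval b : MvPolynomial (Fin m) A →ₐ[A] D).toRingHom a := by
  refine MvPolynomial.ringHom_ext (fun p => ?_) (fun i => ?_)
  · simp [MvPolynomial.eval₂Hom, eval₂_map, aeval_def]
    congr 1
    ext r
    simp
  · simp

theorem locKR_swap {n : ℕ} (α : MvPolynomial (Fin n) A →ₐ[A] D) {m : ℕ}
    (β : MvPolynomial (Fin m) A →ₐ[A] D) (hβ : Function.Surjective β)
    (h : LocKR (RingHom.ker β.toRingHom)) :
    LocKR (RingHom.ker (eval₂Hom α.toRingHom (fun j => β (X j)) :
      MvPolynomial (Fin m) (MvPolynomial (Fin n) A) →+* D)) := by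
  have h1 := locKR_ker_eval₂Hom β.toRingHom hβ h (fun i => α (X i))
  let E := (commAlgEquiv A (Fin n) (Fin m)).toRingEquiv
  refine LocKR.of_ringEquiv E ?_
  convert h1 using 1
  rw [RingHom.comap_ker]
  congr 1
  have e := eval₂Hom_comp_commAlgEquiv (A := A) (fun i => α (X i)) (fun j => β (X j))
  rw [show (aeval fun i => α (X i)) = α from (MvPolynomial.aeval_unique α).symm,
    show (aeval fun j => β (X j)) = β from (MvPolynomial.aeval_unique β).symm] at e
  exact e

/-- Independence of the presentation. -/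
theorem locKR_ker_of_other {n m : ℕ} (α : MvPolynomial (Fin n) A →ₐ[A] D)
    (hα : Function.Surjective α) (β : MvPolynomial (Fin m) A →ₐ[A] D) (hβ : Function.Surjective β)
    (h : LocKR (RingHom.ker β.toRingHom)) : LocKR (RingHom.ker α.toRingHom) :=
  locKR_ker_of_eval₂Hom α.toRingHom hα _ (locKR_swap α β hβ h)

attribute [local instance] MvPolynomial.algebraMvPolynomial in
/-- A presentation of `S` is Koszul-regular where the ring is lci. -/
theorem locKR_away {S : Type u} [CommRing S] [Algebra A S] {n : ℕ}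
    (α : MvPolynomial (Fin n) A →ₐ[A] S) (hα : Function.Surjective α)
    (u : MvPolynomial (Fin n) A) (h : LCI.IsLCI A (Localization.Away (α u))) :
    LocKR ((RingHom.ker α.toRingHom).map (algebraMap _ (Localization.Away u))) := by
  obtain ⟨-, m, β, hβ, hk⟩ := h
  let T := Localization.Away (α u)
  let αT : MvPolynomial (Fin n) A →ₐ[A] T := (IsScalarTower.toAlgHom A S T).comp α
  have hγ := locKR_swap αT β hβ ((locKR_iff _).2 hk)
  let P₁ := Localization.Away u
  let α₁ : P₁ →+* T := IsLocalization.Away.map P₁ T α.toRingHom u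
  have hα₁ : Function.Surjective α₁ := awayMap_surjective α.toRingHom u P₁ T hα
  rw [← ker_awayMap α.toRingHom u P₁ T]
  refine locKR_ker_of_eval₂Hom α₁ hα₁ (fun j => β (X j)) ?_
  let Q₁ := MvPolynomial (Fin m) P₁
  let γ : MvPolynomial (Fin m) (MvPolynomial (Fin n) A) →+* T :=
    eval₂Hom αT.toRingHom fun j => β (X j)
  let γ₁ : Q₁ →+* T := eval₂Hom α₁ fun j => β (X j)
  have hcomp : γ₁.comp (algebraMap _ Q₁) = γ := by
    refine MvPolynomial.ringHom_ext (fun r => ?_) (fun j => ?_)
    · change γ₁ (MvPolynomial.map (algebraMap _ P₁) (C r)) = _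
      simp only [MvPolynomial.map_C, γ₁, γ, eval₂Hom_C]
      exact (eval₂Hom_C _ _ _).trans congr($(awayMap_comp α.toRingHom u P₁ T) r)
    · change γ₁ (MvPolynomial.map (algebraMap _ P₁) (X j)) = _
      rw [MvPolynomial.map_X]
      change eval₂Hom α₁ (fun j => β (X j)) (X j : MvPolynomial (Fin m) P₁) =
        eval₂Hom αT.toRingHom (fun j => β (X j)) (X j)
      rw [eval₂Hom_X', eval₂Hom_X']
  have : IsLocalization ((Submonoid.powers u).map (C (σ := Fin m))) Q₁ :=
    MvPolynomial.isLocalization (Submonoid.powers u) P₁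
  haveI : Module.Flat (MvPolynomial (Fin m) (MvPolynomial (Fin n) A)) Q₁ :=
    IsLocalization.flat Q₁ ((Submonoid.powers u).map (C (σ := Fin m)))
  convert hγ.map_flat (R := Q₁) using 1
  change RingHom.ker γ₁ = Ideal.map _ (RingHom.ker γ)
  rw [← hcomp]
  refine le_antisymm (fun z hz => ?_) (Ideal.map_le_iff_le_comap.2 fun q hq => ?_)
  · obtain ⟨q, s, rfl⟩ :=
      IsLocalization.exists_mk'_eq ((Submonoid.powers u).map (C (σ := Fin m))) z
    rw [IsLocalization.mk'_mem_iff]
    refine Ideal.mem_map_of_mem _ ?_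
    rw [RingHom.mem_ker, RingHom.comp_apply, ← IsLocalization.mk'_spec Q₁ q s, map_mul,
      RingHom.mem_ker.1 hz, zero_mul]
  · rwa [Ideal.mem_comap, RingHom.mem_ker, ← RingHom.comp_apply, ← RingHom.mem_ker]

/-- Being lci is local on the target ring. -/
theorem isLCI_of_span_eq_top {S : Type u} [CommRing S] [Algebra A S] (s : Set S)
    (hs : Ideal.span s = ⊤) (h : ∀ g ∈ s, LCI.IsLCI A (Localization.Away g)) : LCI.IsLCI A S := by
  have hft : Algebra.FiniteType A S :=
    Algebra.FiniteType.of_span_eq_top_target s hs fun g hg => (h g hg).1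
  obtain ⟨n, α, hα⟩ := Algebra.FiniteType.iff_quotient_mvPolynomial''.1 hft
  refine ⟨hft, n, α, hα, (locKR_iff _).1 (locKR_of_cover fun p hp hIp => ?_)⟩
  have hp' : (p.map α.toRingHom).IsPrime :=
    Ideal.map_isPrime_of_surjective (f := α.toRingHom) hα hIp
  have hex : ∃ g ∈ s, g ∉ p.map α.toRingHom := by
    by_contra! hc
    exact hp'.ne_top (top_le_iff.1 (hs ▸ Ideal.span_le.2 hc))
  obtain ⟨g, hgs, hg⟩ := hex
  obtain ⟨u, rfl⟩ := hα g
  exact ⟨u, fun h1 => hg (Ideal.mem_map_of_mem α.toRingHom h1), locKR_away α hα u (h _ hgs)⟩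

end Pres

section Comp

variable {A B C' : Type u} [CommRing A] [CommRing B] [CommRing C'] [Algebra A B] [Algebra B C']
  [Algebra A C'] [IsScalarTower A B C']

/-- Composition of lci ring maps. -/
theorem isLCI_trans (h₁ : LCI.IsLCI A B) (h₂ : LCI.IsLCI B C') : LCI.IsLCI A C' := by
  obtain ⟨hf₁, n, α, hα, hkα⟩ := h₁
  obtain ⟨hf₂, m, β, hβ, hkβ⟩ := h₂
  refine ⟨Algebra.FiniteType.trans (A := C') hf₁ hf₂, m + n, ?_⟩
  let E : MvPolynomial (Fin (m + n)) A ≃ₐ[A] MvPolynomial (Fin m) (MvPolynomial (Fin n) A) :=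
    (renameEquiv A finSumFinEquiv.symm).trans (sumAlgEquiv A (Fin m) (Fin n))
  let φ : MvPolynomial (Fin m) (MvPolynomial (Fin n) A) →ₐ[A] C' :=
    (β.restrictScalars A).comp (MvPolynomial.mapAlgHom α)
  have hφ : Function.Surjective φ := hβ.comp (MvPolynomial.map_surjective α.toRingHom hα)
  refine ⟨φ.comp E.toAlgHom, hφ.comp E.surjective, (locKR_iff _).1 ?_⟩
  have h1 : LocKR (RingHom.ker (MvPolynomial.map α.toRingHom :
      MvPolynomial (Fin m) (MvPolynomial (Fin n) A) →+* _)) := by
    rw [MvPolynomial.ker_map, ← MvPolynomial.algebraMap_eq]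
    exact ((locKR_iff _).2 hkα).map_flat
  have h2 := LocKR.comap (MvPolynomial.map α.toRingHom)
    (MvPolynomial.map_surjective α.toRingHom hα) h1 ((locKR_iff _).2 hkβ)
  have h3 := h2.map_bijective E.symm.toRingEquiv.toRingHom E.symm.bijective
  convert h3 using 1
  rw [RingHom.comap_ker]
  change RingHom.ker (φ.toRingHom.comp E.toRingEquiv.toRingHom) = _
  rw [← RingHom.comap_ker]
  exact (Ideal.map_symm E.toRingEquiv).symm

/-- Being lci is invariant under isomorphism. -/
theorem isLCI_of_algEquiv {B₁ B₂ : Type u} [CommRing B₁] [CommRing B₂] [Algebra A B₁] [Algebra A B₂]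
    (e : B₁ ≃ₐ[A] B₂) (h : LCI.IsLCI A B₁) : LCI.IsLCI A B₂ := by
  obtain ⟨hft, n, α, hα, hk⟩ := h
  refine ⟨Algebra.FiniteType.equiv hft e, n, e.toAlgHom.comp α, e.surjective.comp hα, ?_⟩
  convert hk using 1
  ext x
  simp

end Comp

end

end KRLib
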