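import Groth.Agent.KRLib.Imm

/-!
# Codimension of Koszul-regular immersions
-/

set_option autoImplicit false
set_option linter.style.haveILetI false

universe u

open CategoryTheory AlgebraicGeometry

namespace KRLib

noncomputable section

open KoszDetLib

variable {Q R : Type u} [CommRing Q] [CommRing R]

/-- An ideal generated by a Koszul-exact family of length `n`. -/
def KRGenN (n : ℕ) (I : Ideal Q) : Prop :=
  ∃ f : Fin n → Q, IsExactK f ∧ Ideal.span (Set.range f) = I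

theorem KRGenN.krGen {n : ℕ} {I : Ideal Q} (h : KRGenN n I) : KRGen I := ⟨n, h⟩

theorem krGenN_iff (n : ℕ) (I : Ideal Q) :
    KRGenN n I ↔ ∃ l : List Q, l.length = n ∧ LCI.IsKoszulRegularSeq Q l ∧ I = Ideal.ofList l := by
  constructor
  · rintro ⟨f, hf, rfl⟩
    refine ⟨List.ofFn f, List.length_ofFn, isKoszulRegularSeq_of_isExactK f hf, ?_⟩
    rw [Ideal.ofList]
    congr 1
    ext x
    simp [List.mem_ofFn]
  · rintro ⟨l, rfl, hl, rfl⟩
    refine ⟨l.get, isExactK_of_isKoszulRegularSeq _ (by rwa [List.ofFn_get]), ?_⟩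
    rw [Ideal.ofList]
    congr 1
    ext x
    simp [List.mem_iff_get]

theorem KRGenN.map_flat [Algebra Q R] [Module.Flat Q R] {n : ℕ} {I : Ideal Q} (h : KRGenN n I) :
    KRGenN n (I.map (algebraMap Q R)) := by
  obtain ⟨f, hf, rfl⟩ := h
  refine ⟨fun i => algebraMap Q R (f i), isExactK_of_flat hf, ?_⟩
  rw [Ideal.map_span, ← Set.range_comp]
  rfl

theorem KRGenN.comap {n m : ℕ} (σ : Q →+* R) (hσ : Function.Surjective σ)
    (hI : KRGenN n (RingHom.ker σ)) {J : Ideal R} (hJ : KRGenN m J) :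
    KRGenN (n + m) (J.comap σ) := by
  obtain ⟨f, hf, hfI⟩ := hI
  obtain ⟨g, hg, rfl⟩ := hJ
  choose g' hg' using fun i => hσ (g i)
  have hcomp : σ ∘ g' = g := funext hg'
  refine ⟨app g' f, isExactK_app σ f hf hfI hσ g' (hcomp ▸ hg), ?_⟩
  ext q
  rw [eps_mem_app_iff σ f hfI hσ, hcomp]
  rfl

theorem krGenN_basicOpen {X Z : Scheme.{u}} {i : Z ⟶ X} {n : ℕ} {U : X.Opens} (h : GoodChart i U)
    (hn : KRGenN n (RingHom.ker (i.app U).hom)) (g : Γ(X, U)) :
    KRGenN n (RingHom.ker (i.app (X.basicOpen g)).hom) := by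
  obtain ⟨-, -, h3⟩ := basicOpen_data i h.isAffine h.isAffine_pre h.surjective g
  letI : Algebra Γ(X, U) Γ(X, X.basicOpen g) :=
    (X.presheaf.map (homOfLE (X.basicOpen_le g)).op).hom.toAlgebra
  haveI : IsLocalization.Away g Γ(X, X.basicOpen g) := h.isAffine.isLocalization_basicOpen g
  haveI : Module.Flat Γ(X, U) Γ(X, X.basicOpen g) := IsLocalization.flat _ (Submonoid.powers g)
  rw [h3]
  exact hn.map_flat

theorem isRegularImmersionOfCodim_koszul_iff {X Z : Scheme.{u}} (i : Z ⟶ X) (d : ℕ) :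
    RegImm.IsRegularImmersionOfCodim .koszul d i ↔ IsImmersion i ∧ ∀ z : Z,
      ∃ U : X.Opens, i z ∈ U ∧ GoodChart i U ∧ KRGenN d (RingHom.ker (i.app U).hom) := by
  refine and_congr_right fun _ => forall_congr' fun z => ?_
  constructor
  · rintro ⟨U, hz, hcl, rs, hlen, hrs, hker⟩
    obtain ⟨h1, h2⟩ := (isClosedImmersion_restrict_iff i U.2).1 hcl
    have h := (krGenN_iff d (RingHom.ker (i.app U.1).hom)).2 ⟨rs, hlen, hrs, hker⟩
    exact ⟨U.1, hz, ⟨U.2, h1, h2, h.krGen⟩, h⟩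
  · rintro ⟨U, hz, hU, hn⟩
    obtain ⟨rs, hlen, hrs, hker⟩ := (krGenN_iff _ _).1 hn
    exact ⟨⟨U, hU.isAffine⟩, hz,
      (isClosedImmersion_restrict_iff i hU.isAffine).2 ⟨hU.isAffine_pre, hU.surjective⟩, rs, hlen,
      hrs, hker⟩

theorem exists_goodChartN_comp {X Y Z : Scheme.{u}} {j : Z ⟶ Y} {i : Y ⟶ X} {n m : ℕ} {U : X.Opens}
    (hi : GoodChart i U) (hin : KRGenN n (RingHom.ker (i.app U).hom)) {V : Y.Opens}
    (hj : GoodChart j V) (hjm : KRGenN m (RingHom.ker (j.app V).hom)) (z : Z) (hz : i (j z) ∈ U)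
    (hzV : j z ∈ V) : ∃ W : X.Opens, (j ≫ i) z ∈ W ∧ GoodChart (j ≫ i) W ∧
      KRGenN (n + m) (RingHom.ker ((j ≫ i).app W).hom) := by
  obtain ⟨γ, δ, e, hmem⟩ :=
    exists_basicOpen_le_affine_inter hi.isAffine_pre hj.isAffine (j z) ⟨hz, hzV⟩
  obtain ⟨g, rfl⟩ := hi.surjective γ
  have hiW := hi.basicOpen g
  have hiN := krGenN_basicOpen hi hin g
  have hjW := hj.basicOpen δ
  have hjN := krGenN_basicOpen hj hjm δ
  have hpre : i ⁻¹ᵁ X.basicOpen g = Y.basicOpen δ := (Scheme.preimage_basicOpen i g).trans e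
  rw [← hpre] at hjW hjN
  have hN : KRGenN (n + m) (RingHom.ker ((j ≫ i).app (X.basicOpen g)).hom) := by
    change KRGenN _
      (RingHom.ker ((j.app (i ⁻¹ᵁ X.basicOpen g)).hom.comp (i.app (X.basicOpen g)).hom))
    rw [← RingHom.comap_ker]
    exact KRGenN.comap _ hiW.surjective hiN hjN
  refine ⟨X.basicOpen g, ?_, ⟨hiW.isAffine, ?_, ?_, hN.krGen⟩, hN⟩
  · show j z ∈ i ⁻¹ᵁ X.basicOpen g
    rw [Scheme.preimage_basicOpen i g]
    exact hmem
  · exact hjW.isAffine_pre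
  · rw [Scheme.Hom.comp_app]
    exact hjW.surjective.comp hiW.surjective

end

end KRLib
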